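import Mathlib

/-!
Words and tables for the rigidity of the automorphisms of the Lyons group: root elements of the
Borel subgroup of the group on a, b, c, d and their relations (generated data).
-/

set_option autoImplicit false

namespace H38.LyOut.Data

/-- words of the root elements, in the letters of the table -/
def rootTab : List (List ℕ) := [[3], [15, 15, 15, 13, 11, 11], [5, 5, 15, 13, 13, 13], [5, 5, 15, 5, 5], [5, 13, 15, 15, 13], [17]]

/-- words of the generators of the torus and of the two reflections -/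
def wA2 : List ℕ := [1, 1]
def wG : List ℕ := [1, 2, 1, 3, 3, 1]
def wS : List ℕ := [3, 1, 2]
def wF : List ℕ := [9, 17, 17, 17, 17, 15, 15, 15, 5, 5]

/-- exponents of the torus characters: the power the root is mapped to by each torus generator -/
def mulTab : List (ℕ × ℕ) := [(1, 3), (3, 2), (3, 1), (3, 3), (3, 4), (4, 3)]

/-- exponents of the conjugates of the roots by the roots -/
def cjTab : List (List (List ℕ)) := [[[1, 0, 0, 0, 0, 0], [0, 1, 4, 2, 2, 3], [0, 0, 1, 1, 4, 4], [0, 0, 0, 1, 3, 0], [0, 0, 0, 0, 1, 0], [0, 0, 0, 0, 0, 1]], [[1, 0, 1, 2, 3, 4], [0, 1, 0, 0, 0, 0], [0, 0, 1, 0, 0, 0], [0, 0, 0, 1, 0, 0], [0, 0, 0, 0, 1, 4], [0, 0, 0, 0, 0, 1]], [[1, 0, 0, 4, 4, 4], [0, 1, 0, 0, 0, 0], [0, 0, 1, 0, 0, 0], [0, 0, 0, 1, 0, 2], [0, 0, 0, 0, 1, 0], [0, 0, 0, 0, 0, 1]], [[1, 0, 0, 0, 2, 0], [0, 1, 0, 0, 0, 0], [0, 0, 1, 0, 0, 3], [0, 0, 0, 1, 0, 0], [0, 0, 0, 0, 1, 0], [0, 0, 0, 0, 0, 1]], [[1, 0, 0, 0, 0, 0], [0,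 1, 0, 0, 0, 1], [0, 0, 1, 0, 0, 0], [0, 0, 0, 1, 0, 0], [0, 0, 0, 0, 1, 0], [0, 0, 0, 0, 0, 1]], [[1, 0, 0, 0, 0, 0], [0, 1, 0, 0, 0, 0], [0, 0, 1, 0, 0, 0], [0, 0, 0, 1, 0, 0], [0, 0, 0, 0, 1, 0], [0, 0, 0, 0, 0, 1]]]

/-- exponents of the six basic generators -/
def genExp : List (List ℕ) := [[1, 0, 0, 0, 0, 0], [0, 0, 1, 2, 1, 3], [0, 3, 3, 0, 4, 1], [0, 0, 1, 1, 4, 4], [0, 0, 1, 3, 1, 2], [0, 0, 0, 0, 0, 1]]

/-- the roots as products of the first two -/
def twoWord : List (List ℕ) := [[0], [1], [1, 0, 1, 1, 0, 0, 1, 1, 1, 1, 0, 1, 0, 1, 0, 1, 0, 0, 0, 0], [1, 1, 0, 0, 0, 1, 0, 0, 1, 0, 0, 1, 0, 0, 0], [1, 0, 0, 1, 1, 0, 1, 1, 1, 1, 0, 1, 0, 1, 1], [1, 0, 0, 1, 0, 1, 0, 1, 0, 0, 1, 0, 0, 0, 0]]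

/-- exponents of conjugates by the reflections -/
def fExp : List (ℕ × List ℕ) := [(0, [0, 0, 3, 0, 0, 0]), (2, [2, 0, 0, 0, 0, 0]), (3, [0, 0, 0, 4, 0, 0]), (4, [0, 0, 0, 0, 0, 3]), (5, [0, 0, 0, 0, 2, 0])]
def sExp : List (ℕ × List ℕ) := [(1, [0, 0, 0, 0, 3, 0]), (2, [0, 0, 0, 1, 0, 0]), (3, [0, 0, 2, 0, 0, 0]), (4, [0, 4, 0, 0, 0, 0]), (5, [0, 0, 0, 0, 0, 3])]

/-- cells moving an invariant set: word, root, set, point -/
def witU : List (List Bool × ℕ × List ℕ × ℕ) := [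
  ([false], 0, [5, 13, 14, 17, 18, 22, 27, 66, 68, 69, 74, 111, 117, 157, 201, 229, 230, 233, 238, 604, 605, 1939, 1950, 1994, 1995], 5),
  ([true], 1, [0, 1, 2, 3, 4], 0),
  ([false, true], 1, [0, 1, 2, 3, 4], 0),
  ([true, false], 0, [0, 1, 2, 3, 4], 0),
  ([false, true, false], 0, [0, 1, 2, 3, 4], 0),
  ([true, false, true], 1, [0, 1, 2, 3, 4], 0),
  ([false, true, false, true], 1, [0, 1, 2, 3, 4], 0),
  ([true, false, true, false], 0, [0, 1, 2, 3, 4], 0),
  ([false, true, false, true, false], 0, [0, 1, 2, 3, 4], 0),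
  ([true, false, true, false, true], 1, [0, 1, 2, 3, 4], 0),
  ([false, true, false, true, false, true], 1, [0, 1, 2, 3, 4], 0),
  ([true, false, true, false, true, false], 1, [0, 1, 2, 3, 4], 0)]
def witR : List (List Bool × ℕ × List ℕ × ℕ) := [
  ([true], 1, [0], 0),
  ([false, true], 1, [0], 0),
  ([true, false], 3, [0], 0),
  ([false, true, false], 3, [0], 0),
  ([true, false, true], 1, [0], 0),
  ([false, true, false, true], 1, [0], 0),
  ([true, false, true, false], 2, [0], 0),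
  ([false, true, false, true, false], 2, [0], 0),
  ([true, false, true, false, true], 1, [0], 0),
  ([false, true, false, true, false, true], 1, [0], 0),
  ([true, false, true, false, true, false], 1, [0], 0)]
def witQ : List (List Bool × ℕ × List ℕ × ℕ) := [
  ([false], 0, [5, 13, 14, 22, 66], 5),
  ([false, true], 2, [5, 13, 14, 22, 66], 5),
  ([true, false], 0, [0, 1, 2, 3, 4], 0),
  ([false, true, false], 0, [0, 1, 2, 3, 4], 0),
  ([true, false, true], 2, [0, 1, 2, 3, 4], 0),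
  ([false, true, false, true], 2, [0, 1, 2, 3, 4], 0),
  ([true, false, true, false], 0, [0, 1, 2, 3, 4], 0),
  ([false, true, false, true, false], 0, [0, 1, 2, 3, 4], 0),
  ([true, false, true, false, true], 2, [0, 1, 2, 3, 4], 0),
  ([false, true, false, true, false, true], 2, [0, 1, 2, 3, 4], 0),
  ([true, false, true, false, true, false], 2, [0, 1, 2, 3, 4], 0)]
def witJ : List (List Bool × ℕ × List ℕ × ℕ) := [
  ([false], 4, [5, 13, 14, 22, 66], 5),
  ([true], 2, [0], 0)]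

/-- a set invariant under the second radical, moved by the second root -/
def setQ : List ℕ := [5, 13, 14, 22, 66]
def ptQ : ℕ := 5

/-- torus elements centralising the first two roots -/
def kerTab : List (List (ℕ × ℕ)) := [[(0, 0), (1, 0), (2, 0), (3, 0)], [(0, 0), (1, 1), (2, 2), (3, 3)]]

/-- exponents of the image of c⁻¹ under the twist -/
def twistExp : List ℕ := [0, 0, 0, 0, 3, 0]

/-- all fixed points of c, and some of the twisted element -/
def fixC : List ℕ := [0, 1, 2, 3, 4, 226, 237, 437, 569, 582, 586, 590, 593, 602, 948, 1221, 1947, 1949, 1952, 1955, 1961, 1980, 1984, 1985, 2026, 2027, 2034, 2145, 2199, 2216]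
def fixImage : List ℕ := [0, 1, 2, 3, 4, 5, 6, 7, 13, 14, 17, 18, 22, 27, 31, 32, 60, 61, 66, 68, 69, 74, 78, 79, 105, 106, 111, 117, 121, 122, 148]

end H38.LyOut.Data
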