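import Cfsg.Agent.H23.Ly.ToLy
import Cfsg.Agent.H68.Ly.QBound
import Cfsg.Agent.H38.LyOut.Data

/-!
The Borel subgroup of the group on a, b, c, d of the Lyons presentation: root elements, torus,
and coordinates.
-/

set_option autoImplicit false
set_option maxRecDepth 100000

namespace H38.LyOut

open H77.HN (evw run runK agree Rep)
open H23.Ly (N0 gen na nb nc nd n0_rels n0_closure rep)
open Pointwise

/-- the base -/
def B5 : List ℕ := [0, 66, 193, 194, 195]

/-- value of a word -/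
abbrev W (w : List ℕ) : N0 := evw gen w

instance instFiniteN0 : Finite N0 := by
  have h := n0_rels.closure_finite
  rw [n0_closure] at h
  exact Finite.of_equiv _ Subgroup.topEquiv.toEquiv

theorem n0_le : Nat.card N0 ≤ 5859000000 := by
  have h := n0_rels.card_le
  rw [n0_closure] at h
  rwa [Nat.card_congr Subgroup.topEquiv.toEquiv] at h

theorem n0_card : Nat.card N0 = 5859000000 := (H23.Ly.exact_facts n0_le).1

theorem isBase : rep.IsBase B5 := (H23.Ly.exact_facts n0_le).2.2.1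

theorem W_eq {u v : List ℕ} (h : agree H23.Ly.Data.T B5 u v = true) : W u = W v :=
  rep.evw_eq_of_agree isBase h

theorem W_ne {u v : List ℕ} (h : agree H23.Ly.Data.T B5 u v = false) : W u ≠ W v := by
  intro e
  have : agree H23.Ly.Data.T B5 u v = true := by
    refine List.all_eq_true.mpr fun p hp => ?_
    rw [Nat.beq_eq, H77.HN.runK_eq, H77.HN.runK_eq]
    have hp' : p < 19530 := isBase.1 p hp
    rw [← rep.evw_apply u ⟨p, hp'⟩, ← rep.evw_apply v ⟨p, hp'⟩]
    exact congrArg (fun g => (rep.φ g ⟨p, hp'⟩ : ℕ)) e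
  rw [this] at h
  exact Bool.noConfusion h

/-- the inverse letter -/
def iv (l : ℕ) : ℕ := if l < 22 then (if l % 2 = 0 then l + 1 else l - 1) else l

theorem gen_iv (l : ℕ) : gen (iv l) = (gen l)⁻¹ := by
  unfold iv
  by_cases hl : l < 22
  · rw [if_pos hl]
    interval_cases l <;> simp [gen, H23.Ly.genOf]
  · rw [if_neg hl]
    obtain ⟨m, rfl⟩ : ∃ m, l = m + 22 := ⟨l - 22, by omega⟩
    simp [gen, H23.Ly.genOf]

/-- inverse word -/
def winv (w : List ℕ) : List ℕ := H77.HN.invw iv w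

theorem W_winv (w : List ℕ) : W (winv w) = (W w)⁻¹ := H77.HN.evw_invw gen_iv w

/-- word of a product, in the order of multiplication -/
def wprod (ws : List (List ℕ)) : List ℕ := ws.reverse.flatten

theorem W_wprod : ∀ ws : List (List ℕ), W (wprod ws) = (ws.map W).prod
  | [] => rfl
  | w :: ws => by
    have e : wprod (w :: ws) = wprod ws ++ w := by simp [wprod]
    rw [e, W, H77.HN.evw_append, List.map_cons, List.prod_cons]
    exact congrArg _ (W_wprod ws)

/-- word of a power -/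
def wpow (w : List ℕ) (k : ℕ) : List ℕ := (List.replicate k w).flatten

theorem W_wpow (w : List ℕ) : ∀ k, W (wpow w k) = W w ^ k
  | 0 => by simp [wpow, W]
  | k + 1 => by
    have e : wpow w (k + 1) = w ++ wpow w k := by simp [wpow, List.replicate_succ]
    rw [e, W, H77.HN.evw_append, pow_succ]
    exact congrArg (· * W w) (W_wpow w k)

/-- word of a root -/
def root (i : ℕ) : List ℕ := Data.rootTab.getD i []

/-- the root elements -/
def xv (i : ℕ) : N0 := W (root i)

/-- word with given exponents -/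
def coWord (es : List ℕ) : List ℕ :=
  wprod ((List.range 6).map fun i => wpow (root i) (es.getD i 0))

theorem W_coWord (es : List ℕ) :
    W (coWord es) = ((List.range 6).map fun i => xv i ^ es.getD i 0).prod := by
  rw [coWord, W_wprod, List.map_map]
  exact congrArg List.prod (List.map_congr_left fun i _ => W_wpow _ _)

/-- the subgroup of the roots with given indices -/
def KS (K : List ℕ) : Subgroup N0 := Subgroup.closure {y | ∃ i, i ∈ K ∧ xv i = y}

theorem xv_mem {K : List ℕ} {i : ℕ} (h : i ∈ K) : xv i ∈ KS K :=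
  Subgroup.subset_closure ⟨i, h, rfl⟩

theorem KS_le {K : List ℕ} {H : Subgroup N0} (h : ∀ i ∈ K, xv i ∈ H) : KS K ≤ H :=
  (Subgroup.closure_le _).2 fun _ ⟨i, hi, e⟩ => e ▸ h i hi

theorem KS_mono {K L : List ℕ} (h : ∀ i ∈ K, i ∈ L) : KS K ≤ KS L :=
  KS_le fun i hi => xv_mem (h i hi)

/-- the exponents only involve the given roots -/
def suppIn (K es : List ℕ) : Bool :=
  (List.range 6).all fun i => K.contains i || Nat.beq (es.getD i 0) 0

theorem coWord_mem {K es : List ℕ} (h : suppIn K es = true) : W (coWord es) ∈ KS K := by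
  rw [W_coWord]
  refine Subgroup.list_prod_mem _ fun y hy => ?_
  obtain ⟨i, hi, rfl⟩ := List.mem_map.mp hy
  have h' := List.all_eq_true.mp h i hi
  simp only [Bool.or_eq_true, List.contains_iff_mem, Nat.beq_eq] at h'
  rcases h' with h' | h'
  · exact pow_mem (xv_mem h') _
  · rw [h', pow_zero]; exact one_mem _

/-- roots of the Borel subgroup and of the radicals -/
def KU : List ℕ := [0, 1, 2, 3, 4, 5]
def KR : List ℕ := [1, 2, 3, 4, 5]
def KQ : List ℕ := [0, 2, 3, 4, 5]
def KJ : List ℕ := [2, 3, 4, 5]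

/-- conjugates of roots by roots -/
def cjExp (i j : ℕ) : List ℕ := (Data.cjTab.getD i []).getD j []

theorem cj_check : ((List.range 6).all fun i => (List.range 6).all fun j =>
    agree H23.Ly.Data.T B5 (wprod [root i, root j, winv (root i)]) (coWord (cjExp i j))) = true := by
  decide +kernel

theorem cj_eq {i j : ℕ} (hi : i < 6) (hj : j < 6) :
    xv i * xv j * (xv i)⁻¹ = W (coWord (cjExp i j)) := by
  have h := List.all_eq_true.mp (List.all_eq_true.mp cj_check i (List.mem_range.mpr hi)) j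
    (List.mem_range.mpr hj)
  rw [← W_eq h, W_wprod]
  simp [xv, W_winv, mul_assoc]

/-- a conjugation mapping a finite subgroup into itself normalises it -/
theorem norm_of_conj {S : Set N0} {g : N0}
    (h : ∀ s ∈ S, g * s * g⁻¹ ∈ Subgroup.closure S) :
    g ∈ Subgroup.normalizer (Subgroup.closure S : Set N0) := by
  set H := Subgroup.closure S
  have hle : H.map (MulAut.conj g).toMonoidHom ≤ H := by
    rw [Subgroup.map_le_iff_le_comap, Subgroup.closure_le]
    exact h
  have heq : H.map (MulAut.conj g).toMonoidHom = H := by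
    refine Subgroup.eq_of_le_of_card_ge hle ?_
    rw [Subgroup.card_map_of_injective (f := (MulAut.conj g).toMonoidHom) (MulAut.conj g).injective]
  rw [Subgroup.mem_normalizer_iff]
  intro y
  constructor
  · intro hy
    exact hle ⟨y, hy, rfl⟩
  · intro hy
    rw [← heq] at hy
    obtain ⟨z, hz, e⟩ := hy
    have : g * z * g⁻¹ = g * y * g⁻¹ := e
    rwa [← mul_left_cancel (mul_right_cancel this)]

theorem cj_supp : ([KU, KR, KQ, KJ, [1, 2, 3, 4, 5], [2, 3, 4, 5], [3, 4, 5], [4, 5], [5], []].all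
    fun K => (List.range 6).all fun i => K.all fun j => decide (j < 6) && suppIn K (cjExp i j)) = true := by
  decide +kernel

theorem root_norm {K : List ℕ}
    (hK : K ∈ [KU, KR, KQ, KJ, [1, 2, 3, 4, 5], [2, 3, 4, 5], [3, 4, 5], [4, 5], [5], []])
    {i : ℕ} (hi : i < 6) : xv i ∈ Subgroup.normalizer (KS K : Set N0) := by
  refine norm_of_conj ?_
  rintro _ ⟨j, hj, rfl⟩
  have h := List.all_eq_true.mp (List.all_eq_true.mp (List.all_eq_true.mp cj_supp K hK) i
    (List.mem_range.mpr hi)) j hj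
  simp only [Bool.and_eq_true, decide_eq_true_eq] at h
  rw [cj_eq hi h.1]
  exact coWord_mem h.2

theorem pow5_check : ((List.range 6).all fun i =>
    agree H23.Ly.Data.T B5 (wpow (root i) 5) []) = true := by decide +kernel

theorem xv_pow5 {i : ℕ} (hi : i < 6) : xv i ^ 5 = 1 := by
  have := W_eq (List.all_eq_true.mp pow5_check i (List.mem_range.mpr hi))
  rw [W_wpow] at this
  exact this

theorem xv_pow_mod {i : ℕ} (hi : i < 6) (n : ℕ) : xv i ^ n = xv i ^ (n % 5) :=
  pow_eq_pow_mod n (xv_pow5 hi)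

/-- splitting off the first root -/
theorem split {k : ℕ} {L : List ℕ} (hk : k < 6)
    (hn : xv k ∈ Subgroup.normalizer (KS L : Set N0)) {y : N0} (hy : y ∈ KS (k :: L)) :
    ∃ e : Fin 5, ∃ m ∈ KS L, y = xv k ^ (e : ℕ) * m := by
  have hle : KS (k :: L) ≤ Subgroup.zpowers (xv k) ⊔ KS L := KS_le fun i hi => by
    rcases List.mem_cons.mp hi with rfl | hi
    · exact Subgroup.mem_sup_left (Subgroup.mem_zpowers _)
    · exact Subgroup.mem_sup_right (xv_mem hi)
  have hy' : y ∈ ((Subgroup.zpowers (xv k) ⊔ KS L : Subgroup N0) : Set N0) := hle hy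
  rw [Subgroup.coe_mul_of_left_le_normalizer_right _ _ (Subgroup.zpowers_le.2 hn)] at hy'
  obtain ⟨z, hz, m, hm, rfl⟩ := hy'
  obtain ⟨n, rfl⟩ := Submonoid.mem_powers_iff _ _ |>.1
    ((isOfFinOrder_of_finite (xv k)).mem_powers_iff_mem_zpowers.2 hz)
  exact ⟨⟨n % 5, Nat.mod_lt _ (by norm_num)⟩, m, hm,
    congrArg (· * m) (xv_pow_mod hk n)⟩

/-- the element with given coordinates -/
def co (e : Fin 6 → Fin 5) : N0 :=
  xv 0 ^ (e 0 : ℕ) * (xv 1 ^ (e 1 : ℕ) * (xv 2 ^ (e 2 : ℕ) * (xv 3 ^ (e 3 : ℕ) *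
    (xv 4 ^ (e 4 : ℕ) * xv 5 ^ (e 5 : ℕ)))))

theorem co_mem (e : Fin 6 → Fin 5) : co e ∈ KS KU := by
  have h : ∀ i, i < 6 → ∀ n : ℕ, xv i ^ n ∈ KS KU := fun i hi n =>
    pow_mem (xv_mem (by simp only [KU, List.mem_cons, List.not_mem_nil, or_false]; omega)) _
  exact mul_mem (h 0 (by norm_num) _) (mul_mem (h 1 (by norm_num) _) (mul_mem (h 2 (by norm_num) _)
    (mul_mem (h 3 (by norm_num) _) (mul_mem (h 4 (by norm_num) _) (h 5 (by norm_num) _)))))

theorem split_tail {y : N0} (hy : y ∈ KS KJ) :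
    ∃ e2 e3 e4 e5 : Fin 5, y = xv 2 ^ (e2 : ℕ) * (xv 3 ^ (e3 : ℕ) *
      (xv 4 ^ (e4 : ℕ) * xv 5 ^ (e5 : ℕ))) := by
  obtain ⟨e2, m2, hm2, rfl⟩ := split (k := 2) (L := [3, 4, 5]) (by norm_num)
    (root_norm (List.mem_of_getElem? (i := 6) rfl) (by norm_num)) hy
  obtain ⟨e3, m3, hm3, rfl⟩ := split (k := 3) (L := [4, 5]) (by norm_num)
    (root_norm (List.mem_of_getElem? (i := 7) rfl) (by norm_num)) hm2
  obtain ⟨e4, m4, hm4, rfl⟩ := split (k := 4) (L := [5]) (by norm_num)
    (root_norm (List.mem_of_getElem? (i := 8) rfl) (by norm_num)) hm3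
  obtain ⟨e5, m5, hm5, rfl⟩ := split (k := 5) (L := []) (by norm_num)
    (root_norm (List.mem_of_getElem? (i := 9) rfl) (by norm_num)) hm4
  have h0 : m5 = 1 := Subgroup.mem_bot.1 ((KS_le (H := ⊥) fun i hi => by simp at hi) hm5)
  exact ⟨e2, e3, e4, e5, by rw [h0, mul_one]⟩

theorem split_R {y : N0} (hy : y ∈ KS KR) : ∃ e : Fin 6 → Fin 5, e 0 = 0 ∧ y = co e := by
  obtain ⟨e1, m, hm, rfl⟩ := split (k := 1) (L := KJ) (by norm_num)
    (root_norm (List.mem_of_getElem? (i := 3) rfl) (by norm_num)) hy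
  obtain ⟨e2, e3, e4, e5, rfl⟩ := split_tail hm
  exact ⟨![0, e1, e2, e3, e4, e5], rfl, by simp [co]⟩

theorem split_U {y : N0} (hy : y ∈ KS KU) : ∃ e : Fin 6 → Fin 5, y = co e := by
  obtain ⟨e0, m, hm, rfl⟩ := split (k := 0) (L := KR) (by norm_num)
    (root_norm (List.mem_of_getElem? (i := 1) rfl) (by norm_num)) hy
  obtain ⟨e, -, rfl⟩ := split_R hm
  have : xv 0 ^ (e0 : ℕ) * co e = xv 0 ^ ((e0 + e 0 : Fin 5) : ℕ) * (xv 1 ^ (e 1 : ℕ) *
      (xv 2 ^ (e 2 : ℕ) * (xv 3 ^ (e 3 : ℕ) * (xv 4 ^ (e 4 : ℕ) * xv 5 ^ (e 5 : ℕ))))) := by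
    rw [Fin.val_add, ← xv_pow_mod (by norm_num), pow_add, co, mul_assoc]
  exact ⟨![e0 + e 0, e 1, e 2, e 3, e 4, e 5], by rw [this]; rfl⟩

theorem gen_check : ((List.range 6).all fun i =>
    agree H23.Ly.Data.T B5 ([[3], [5], [11], [13], [15], [17]].getD i [])
      (coWord (Data.genExp.getD i []))) = true ∧
    ((List.range 6).all fun i => suppIn KU (Data.genExp.getD i [])) = true := by decide +kernel

theorem root_letters : ((List.range 6).all fun i => (root i).all fun l =>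
    [3, 5, 11, 13, 15, 17].contains l) = true := by decide +kernel

theorem uB_eq : H68.Ly.uB na nb nc = KS KU := by
  refine le_antisymm ?_ (KS_le fun i hi => ?_)
  · refine (Subgroup.closure_le _).2 ?_
    rintro _ ⟨i, hi, -, rfl⟩
    have h := W_eq (List.all_eq_true.mp gen_check.1 i (List.mem_range.mpr hi))
    have hm := coWord_mem (List.all_eq_true.mp gen_check.2 i (List.mem_range.mpr hi))
    rw [← h] at hm
    interval_cases i <;> simpa [W, gen, H23.Ly.genOf, H68.Ly.gen] using hm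
  · have hi6 : i < 6 := by simp only [KU, List.mem_cons, List.not_mem_nil, or_false] at hi; omega
    refine H77.HN.evw_mem fun l hl => ?_
    have h := List.all_eq_true.mp (List.all_eq_true.mp root_letters i (List.mem_range.mpr hi6)) l hl
    simp only [List.contains_iff_mem, List.mem_cons, List.not_mem_nil, or_false] at h
    rcases h with rfl | rfl | rfl | rfl | rfl | rfl
    · exact H68.Ly.mem_uB_gen na nb nc (i := 0) (by norm_num)
    · exact H68.Ly.mem_uB_gen na nb nc (i := 1) (by norm_num)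
    · exact H68.Ly.mem_uB_gen na nb nc (i := 2) (by norm_num)
    · exact H68.Ly.mem_uB_gen na nb nc (i := 3) (by norm_num)
    · exact H68.Ly.mem_uB_gen na nb nc (i := 4) (by norm_num)
    · exact H68.Ly.mem_uB_gen na nb nc (i := 5) (by norm_num)

/-! ### the torus -/

/-- an element of the torus -/
def tt (p : Fin 4 × Fin 4) : N0 := W Data.wA2 ^ (p.1 : ℕ) * W Data.wG ^ (p.2 : ℕ)

/-- its word -/
def ttWord (p : Fin 4 × Fin 4) : List ℕ := wprod [wpow Data.wA2 p.1, wpow Data.wG p.2]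

theorem W_ttWord (p : Fin 4 × Fin 4) : W (ttWord p) = tt p := by
  simp [ttWord, W_wprod, W_wpow, tt]

theorem wA2_eq : W Data.wA2 = na ^ 2 := by
  simp [W, Data.wA2, gen, H23.Ly.genOf, pow_two]

theorem wG_eq : W Data.wG = H68.Ly.gg na nb := by
  simp [W, Data.wG, gen, H23.Ly.genOf, H68.Ly.gg, pow_two, mul_assoc]

theorem mem_tor {t : N0} (ht : t ∈ H68.Ly.tor na nb) : ∃ p, t = tt p := by
  have hz : (na ^ 2) ^ 4 = 1 := n0_rels.z4
  have hg : H68.Ly.gg na nb ^ 4 = 1 := n0_rels.g4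
  have hc : Commute (na ^ 2) (H68.Ly.gg na nb) := n0_rels.z_comm_g
  have key : ∀ i j : ℕ, ∃ p, (na ^ 2) ^ i * H68.Ly.gg na nb ^ j = tt p := fun i j =>
    ⟨(⟨i % 4, Nat.mod_lt _ (by norm_num)⟩, ⟨j % 4, Nat.mod_lt _ (by norm_num)⟩), by
      rw [tt, wA2_eq, wG_eq, pow_eq_pow_mod i hz, pow_eq_pow_mod j hg]⟩
  have : ∃ i j : ℕ, t = (na ^ 2) ^ i * H68.Ly.gg na nb ^ j := by
    induction ht using Subgroup.closure_induction with
    | mem x hx =>
      rcases hx with rfl | rfl
      · exact ⟨1, 0, by simp⟩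
      · exact ⟨0, 1, by simp⟩
    | one => exact ⟨0, 0, by simp⟩
    | mul x y _ _ hx hy =>
      obtain ⟨i, j, rfl⟩ := hx
      obtain ⟨k, l, rfl⟩ := hy
      refine ⟨i + k, j + l, ?_⟩
      rw [pow_add, pow_add]
      exact (hc.pow_pow k j).symm.mul_mul_mul_comm _ _
    | inv x _ hx =>
      obtain ⟨i, j, rfl⟩ := hx
      refine ⟨3 * i, 3 * j, inv_eq_of_mul_eq_one_left ?_⟩
      rw [(hc.pow_pow i (3 * j)).symm.mul_mul_mul_comm, ← pow_add, ← pow_add,
        show 3 * i + i = 4 * i by ring, show 3 * j + j = 4 * j by ring, pow_mul, pow_mul, hz, hg]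
      simp
  obtain ⟨i, j, rfl⟩ := this
  exact key i j

theorem tt_mem (p : Fin 4 × Fin 4) : tt p ∈ H68.Ly.tor na nb := by
  have h1 : na ^ 2 ∈ H68.Ly.tor na nb := by
    unfold H68.Ly.tor
    exact Subgroup.subset_closure (Set.mem_insert _ _)
  have h2 : H68.Ly.gg na nb ∈ H68.Ly.tor na nb := by
    unfold H68.Ly.tor
    exact Subgroup.subset_closure (Set.mem_insert_of_mem _ rfl)
  rw [tt, wA2_eq, wG_eq]
  exact mul_mem (pow_mem h1 _) (pow_mem h2 _)

/-- the Borel subgroup -/
abbrev bor : Subgroup N0 := H68.Ly.bor na nb nc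

theorem bor_cases {y : N0} (hy : y ∈ bor) : ∃ e p, y = co e * tt p := by
  obtain ⟨u, hu, t, ht, rfl⟩ := n0_rels.bor_split hy
  rw [uB_eq] at hu
  obtain ⟨e, rfl⟩ := split_U hu
  obtain ⟨p, rfl⟩ := mem_tor ht
  exact ⟨e, p, rfl⟩

theorem KU_le_bor : KS KU ≤ bor := uB_eq ▸ H68.Ly.uB_le_bor

theorem tt_mem_bor (p : Fin 4 × Fin 4) : tt p ∈ bor := H68.Ly.tor_le_bor (tt_mem p)

end H38.LyOut
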