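import Cfsg.Agent.H38.LyOut.Basic

/-!
Rigidity of the Borel subgroup: an injective endomorphism keeping the unipotent radical and the
torus is conjugation by a torus element.
-/

set_option autoImplicit false
set_option maxRecDepth 100000

namespace H38.LyOut

open H77.HN (evw run runK agree Rep)
open H23.Ly (N0 gen na nb nc nd n0_rels n0_closure rep)
open Pointwise

theorem n0_mem_cells (y : N0) : y ∈ H68.Ly.cells na nb nc nd := by
  apply n0_rels.closure_subset
  rw [n0_closure]
  exact Subgroup.mem_top y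

theorem card_bor_ge : 250000 ≤ Nat.card bor := by
  have key : ∀ L : List (List Bool), ∃ R : Set N0,
      H68.Ly.Small R ((L.map fun w => 5 ^ w.length).sum) ∧
      {x | ∃ w ∈ L, x ∈ H68.Ly.cell na nb nc nd w} ⊆ R * (bor : Set N0) := by
    intro L
    induction L with
    | nil => exact ⟨∅, ⟨Set.finite_empty, by simp⟩, fun x ⟨w, hw, _⟩ => absurd hw (List.not_mem_nil)⟩
    | cons w L ih =>
      obtain ⟨R, hR, hsub⟩ := ih
      obtain ⟨R', hR', hsub'⟩ := n0_rels.cell_small w
      refine ⟨R' ∪ R, by rw [List.map_cons, List.sum_cons]; exact hR'.union hR, ?_⟩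
      rintro x ⟨v, hv, hx⟩
      rw [Set.union_mul]
      rcases List.mem_cons.1 hv with rfl | hv
      · exact Or.inl (hsub' hx)
      · exact Or.inr (hsub ⟨v, hv, hx⟩)
  obtain ⟨R, hR, hsub⟩ := key H68.Ly.cellWords.dropLast
  have huniv : (Set.univ : Set N0) ⊆ R * (bor : Set N0) := by
    intro x _
    obtain ⟨w, hw, hx⟩ := n0_mem_cells x
    by_cases hl : w ∈ H68.Ly.cellWords.dropLast
    · exact hsub ⟨w, hl, hx⟩
    · have : w = [true, false, true, false, true, false] := by
        revert hl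
        simp only [H68.Ly.cellWords, List.mem_cons, List.not_mem_nil, or_false] at hw
        rcases hw with rfl | rfl | rfl | rfl | rfl | rfl | rfl | rfl | rfl | rfl | rfl | rfl | rfl <;>
          decide
      subst this
      rw [← n0_rels.longest] at hx
      exact hsub ⟨[false, true, false, true, false, true], by decide, hx⟩
  have hB : H68.Ly.Small (bor : Set N0) (Nat.card bor) :=
    ⟨Set.toFinite _, (Nat.card_coe_set_eq _).ge⟩
  have h := (hR.mul hB huniv).2
  rw [Set.ncard_univ, n0_card] at h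
  have hs : ((H68.Ly.cellWords.dropLast).map fun w => 5 ^ w.length).sum = 23436 := by decide
  rw [hs] at h
  omega

/-- coordinates in the Borel subgroup are unique -/
theorem coord_inj {e e' : Fin 6 → Fin 5} {p p' : Fin 4 × Fin 4}
    (h : co e * tt p = co e' * tt p') : e = e' ∧ p = p' := by
  let ψ : (Fin 6 → Fin 5) × Fin 4 × Fin 4 → bor := fun z =>
    ⟨co z.1 * tt z.2, mul_mem (KU_le_bor (co_mem z.1)) (tt_mem_bor z.2)⟩
  have hs : Function.Surjective ψ := by
    rintro ⟨y, hy⟩
    obtain ⟨e, p, rfl⟩ := bor_cases hy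
    exact ⟨(e, p), rfl⟩
  have hc : Fintype.card ((Fin 6 → Fin 5) × Fin 4 × Fin 4) = 250000 := by simp
  have hb : Function.Bijective ψ := hs.bijective_of_nat_card_le (by
    rw [Nat.card_eq_fintype_card, hc]; exact card_bor_ge)
  have := @hb.1 (e, p) (e', p') (Subtype.ext h)
  exact ⟨congrArg Prod.fst this, congrArg Prod.snd this⟩

theorem card_bor : Nat.card bor = 250000 := by
  refine le_antisymm ?_ card_bor_ge
  exact n0_rels.small_bor.2.trans' (Nat.card_coe_set_eq _).le

theorem co_inj {e e' : Fin 6 → Fin 5} (h : co e = co e') : e = e' :=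
  (coord_inj (p := (0, 0)) (p' := (0, 0)) (by rw [h])).1

theorem co_zero : co 0 = 1 := by simp [co]

theorem tt_zero : tt (0, 0) = 1 := by simp [tt]

theorem tt_inj {p p' : Fin 4 × Fin 4} (h : tt p = tt p') : p = p' :=
  (coord_inj (e := 0) (e' := 0) (by rw [h])).2

theorem card_KU : Nat.card (KS KU) = 15625 := by
  have hb : Function.Bijective fun e : Fin 6 → Fin 5 => (⟨co e, co_mem e⟩ : KS KU) :=
    ⟨fun e e' h => co_inj (congrArg Subtype.val h), fun ⟨y, hy⟩ => by
      obtain ⟨e, rfl⟩ := split_U hy; exact ⟨e, rfl⟩⟩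
  rw [← Nat.card_congr (Equiv.ofBijective _ hb), Nat.card_eq_fintype_card]
  simp

theorem co_single (r : Fin 6) (k : Fin 5) : co (Pi.single r k) = xv r ^ (k : ℕ) := by
  fin_cases r <;> simp [co]

theorem pow_inj {r : Fin 6} {m n : ℕ} (h : xv r ^ m = xv r ^ n) : m % 5 = n % 5 := by
  have hr : (r : ℕ) < 6 := r.2
  rw [xv_pow_mod hr m, xv_pow_mod hr n] at h
  have := congrFun (co_inj (e := Pi.single r ⟨m % 5, Nat.mod_lt _ (by norm_num)⟩)
    (e' := Pi.single r ⟨n % 5, Nat.mod_lt _ (by norm_num)⟩) (by rw [co_single, co_single]; exact h)) r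
  simpa using congrArg Fin.val this

/-! ### sets kept by a subgroup -/

/-- the roots with the given indices keep a set of points -/
noncomputable def keepsB (K S : List ℕ) : Bool :=
  S.all (fun p => decide (p < 19530)) &&
    K.all fun r => S.all fun p => S.contains (runK H23.Ly.Data.T (root r) p)

/-- a word moves a set -/
noncomputable def movesB (w S : List ℕ) (p : ℕ) : Bool :=
  S.contains p && !S.contains (runK H23.Ly.Data.T w p)

theorem not_mem_of_moves {K S : List ℕ} {w : List ℕ} {p : ℕ} (hK : keepsB K S = true)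
    (hw : movesB w S p = true) : W w ∉ KS K := by
  simp only [keepsB, Bool.and_eq_true, List.all_eq_true, decide_eq_true_eq,
    List.contains_iff_mem, H77.HN.runK_eq] at hK
  simp only [movesB, Bool.and_eq_true, Bool.not_eq_true', List.contains_iff_mem,
    H77.HN.runK_eq, Bool.eq_false_iff, ne_eq] at hw
  intro hmem
  have key : ∀ g ∈ KS K, ∀ q : Fin 19530, (q : ℕ) ∈ S → (rep.φ g q : ℕ) ∈ S := by
    intro g hg
    rw [KS, ← Subgroup.mem_toSubmonoid, Subgroup.closure_toSubmonoid_of_finite] at hg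
    induction hg using Submonoid.closure_induction with
    | mem x hx =>
      obtain ⟨r, hr, rfl⟩ := hx
      intro q hq
      rw [xv, rep.evw_apply]
      exact hK.2 r hr q hq
    | one => intro q hq; simpa using hq
    | mul x y _ _ hx hy =>
      intro q hq
      rw [map_mul, Equiv.Perm.mul_apply]
      exact hx _ (hy q hq)
  have h := key _ hmem ⟨p, hK.1 p hw.1⟩ hw.1
  rw [rep.evw_apply] at h
  exact hw.2 h

theorem xv1_moves :
    keepsB KQ Data.setQ = true ∧ movesB (root 1) Data.setQ Data.ptQ = true := by decide +kernel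

theorem xv1_not_mem : xv 1 ∉ KS KQ := not_mem_of_moves xv1_moves.1 xv1_moves.2

theorem xv0_not_mem : xv 0 ∉ KS KR := fun h => by
  obtain ⟨e, he, he'⟩ := split_R h
  have h1 : co (Pi.single (0 : Fin 6) 1) = co e := by
    rw [co_single, ← he']; simp
  have := congrFun (co_inj h1) 0
  rw [he, Pi.single_eq_same] at this
  exact one_ne_zero this

/-! ### characters of the torus -/

/-- the power a root is mapped to -/
def mulN (r : ℕ) (p : Fin 4 × Fin 4) : ℕ :=
  (Data.mulTab.getD r (0, 0)).1 ^ (p.1 : ℕ) * (Data.mulTab.getD r (0, 0)).2 ^ (p.2 : ℕ)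

theorem mul_check : ((List.range 6).all fun r =>
    agree H23.Ly.Data.T B5 (wprod [winv Data.wA2, root r, Data.wA2])
      (wpow (root r) (Data.mulTab.getD r (0, 0)).1) &&
    agree H23.Ly.Data.T B5 (wprod [winv Data.wG, root r, Data.wG])
      (wpow (root r) (Data.mulTab.getD r (0, 0)).2)) = true := by decide +kernel

theorem conj_iter {G : Type*} [Group G] {t x : G} {m : ℕ} (h : t⁻¹ * x * t = x ^ m) :
    ∀ n : ℕ, (t ^ n)⁻¹ * x * t ^ n = x ^ (m ^ n)
  | 0 => by simp
  | n + 1 => by
    calc (t ^ (n + 1))⁻¹ * x * t ^ (n + 1) = t⁻¹ * ((t ^ n)⁻¹ * x * t ^ n) * t := by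
          rw [pow_succ]; group
      _ = t⁻¹ * x ^ (m ^ n) * t := by rw [conj_iter h n]
      _ = (t⁻¹ * x * t) ^ (m ^ n) := by
          have := (conj_pow (i := m ^ n) (a := t⁻¹) (b := x)).symm
          rw [inv_inv] at this
          exact this
      _ = x ^ (m ^ (n + 1)) := by rw [h, ← pow_mul, pow_succ, mul_comm]

theorem tt_conj {r : ℕ} (hr : r < 6) (p : Fin 4 × Fin 4) :
    (tt p)⁻¹ * xv r * tt p = xv r ^ mulN r p := by
  have h := List.all_eq_true.mp mul_check r (List.mem_range.mpr hr)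
  simp only [Bool.and_eq_true] at h
  have h1 := W_eq h.1
  have h2 := W_eq h.2
  rw [W_wprod, W_wpow] at h1 h2
  simp only [List.map_cons, List.map_nil, List.prod_cons, List.prod_nil, mul_one, W_winv,
    ← mul_assoc] at h1 h2
  have e1 := conj_iter h1 (p.1 : ℕ)
  have e2 := conj_iter h2 (p.2 : ℕ)
  calc (tt p)⁻¹ * xv r * tt p
      = (W Data.wG ^ (p.2 : ℕ))⁻¹ * ((W Data.wA2 ^ (p.1 : ℕ))⁻¹ * xv r * W Data.wA2 ^ (p.1 : ℕ)) *
          W Data.wG ^ (p.2 : ℕ) := by rw [tt]; group
    _ = (W Data.wG ^ (p.2 : ℕ))⁻¹ * xv r ^ ((Data.mulTab.getD r (0, 0)).1 ^ (p.1 : ℕ)) *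
          W Data.wG ^ (p.2 : ℕ) := by rw [xv, e1]
    _ = ((W Data.wG ^ (p.2 : ℕ))⁻¹ * xv r * W Data.wG ^ (p.2 : ℕ)) ^
          ((Data.mulTab.getD r (0, 0)).1 ^ (p.1 : ℕ)) := by
          have := (conj_pow (i := (Data.mulTab.getD r (0, 0)).1 ^ (p.1 : ℕ))
            (a := (W Data.wG ^ (p.2 : ℕ))⁻¹) (b := xv r)).symm
          rw [inv_inv] at this
          exact this
    _ = xv r ^ mulN r p := by rw [xv, e2, ← pow_mul, mulN, mul_comm]

/-- the exponents after conjugation -/
def actE (p : Fin 4 × Fin 4) (e : Fin 6 → Fin 5) : Fin 6 → Fin 5 :=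
  fun r => e r * ⟨mulN r p % 5, Nat.mod_lt _ (by norm_num)⟩

theorem co_conj (p : Fin 4 × Fin 4) (e : Fin 6 → Fin 5) :
    (tt p)⁻¹ * co e * tt p = co (actE p e) := by
  have key : ∀ r : Fin 6, MulAut.conj (tt p)⁻¹ (xv r ^ (e r : ℕ)) = xv r ^ ((actE p e r : ℕ)) := by
    intro r
    rw [map_pow, MulAut.conj_apply, inv_inv, tt_conj r.2, ← pow_mul]
    rw [xv_pow_mod r.2 (mulN r p * (e r : ℕ))]
    congr 1
    simp [actE, Fin.val_mul, Nat.mul_mod, mul_comm]
  have h0 := key 0
  have h1 := key 1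
  have h2 := key 2
  have h3 := key 3
  have h4 := key 4
  have h5 := key 5
  simp only [Fin.val_zero, Fin.val_one, Fin.val_two] at h0 h1 h2
  show _ = co (actE p e)
  calc (tt p)⁻¹ * co e * tt p = MulAut.conj (tt p)⁻¹ (co e) := by rw [MulAut.conj_apply, inv_inv]
    _ = co (actE p e) := by
      simp only [co, map_mul]
      rw [h0, h1, h2]
      exact congrArg _ (congrArg _ (congrArg _ (congrArg₂ _ h3 (congrArg₂ _ h4 h5))))

theorem chi_check : ∀ r s : Fin 6, r ≠ s →
    (Finset.univ.filter fun p : Fin 4 × Fin 4 => mulN r p % 5 = 1 ∧ mulN s p % 5 = 1).card < 4 := by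
  decide +kernel

theorem ker_check : ∀ r : Fin 6,
    (Finset.univ.filter fun p : Fin 4 × Fin 4 => mulN r p % 5 = 1).card = 4 := by
  decide +kernel

theorem fix_coord : ∀ a b : Fin 5, a ≠ 0 → a * b = a → b = 1 := by decide

/-- an element of the radical with four fixers in the torus lies in a root subgroup -/
theorem single_root {e : Fin 6 → Fin 5} {F : Finset (Fin 4 × Fin 4)} (hF : 4 ≤ F.card)
    (hfix : ∀ p ∈ F, (tt p)⁻¹ * co e * tt p = co e) : ∃ r k, e = Pi.single r k := by
  by_cases h0 : ∀ r, e r = 0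
  · exact ⟨0, 0, funext fun r => by rw [h0 r]; simp [Pi.single_apply]⟩
  push Not at h0
  obtain ⟨r, hr⟩ := h0
  refine ⟨r, e r, funext fun s => ?_⟩
  by_cases hs : s = r
  · subst hs; simp
  rw [Pi.single_eq_of_ne hs]
  by_contra hne
  have hsub : F ⊆ Finset.univ.filter fun p : Fin 4 × Fin 4 =>
      mulN r p % 5 = 1 ∧ mulN s p % 5 = 1 := by
    intro p hp
    have h := co_inj ((co_conj p e).symm.trans (hfix p hp))
    have h1 := fix_coord _ _ hr (congrFun h r)
    have h2 := fix_coord _ _ hne (congrFun h s)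
    simp only [Finset.mem_filter, Finset.mem_univ, true_and]
    exact ⟨congrArg Fin.val h1, congrArg Fin.val h2⟩
  have := Finset.card_le_card hsub
  have := chi_check r s (Ne.symm hs)
  omega

theorem scale_check : ∀ k k' : Fin 5, k ≠ 0 → k' ≠ 0 →
    (∃ p : Fin 4 × Fin 4, (k : ℕ) * mulN 0 p % 5 = 1 ∧ (k' : ℕ) * mulN 1 p % 5 = 1) := by
  decide +kernel

theorem sep_check : ∀ p q : Fin 4 × Fin 4, mulN 0 p % 5 = mulN 0 q % 5 →
    mulN 1 p % 5 = mulN 1 q % 5 → p = q := by decide +kernel

theorem two_check : ((List.range 6).all fun r =>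
    agree H23.Ly.Data.T B5 (root r) (wprod ((Data.twoWord.getD r []).map root))) = true ∧
    ((List.range 6).all fun r => (Data.twoWord.getD r []).all fun i => decide (i < 2)) = true := by
  decide +kernel

/-- the first two roots generate -/
theorem KU_le_two {H : Subgroup N0} (h0 : xv 0 ∈ H) (h1 : xv 1 ∈ H) : KS KU ≤ H := by
  refine KS_le fun r hr => ?_
  have hr6 : r < 6 := by
    simp only [KU, List.mem_cons, List.not_mem_nil, or_false] at hr; omega
  rw [xv, W_eq (List.all_eq_true.mp two_check.1 r (List.mem_range.mpr hr6)), W_wprod, List.map_map]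
  refine Subgroup.list_prod_mem _ fun y hy => ?_
  obtain ⟨i, hi, rfl⟩ := List.mem_map.mp hy
  have := List.all_eq_true.mp (List.all_eq_true.mp two_check.2 r (List.mem_range.mpr hr6)) i hi
  simp only [decide_eq_true_eq] at this
  interval_cases i
  exacts [h0, h1]

/-- commutator -/
def com {G : Type*} [Group G] (x y : G) : G := x⁻¹ * y⁻¹ * x * y

theorem rel_check :
    agree H23.Ly.Data.T B5
      (let c := fun x y : List ℕ => wprod [winv x, winv y, x, y]
       c (root 1) (c (root 1) (c (root 1) (root 0)))) [] = true ∧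
    agree H23.Ly.Data.T B5
      (let c := fun x y : List ℕ => wprod [winv x, winv y, x, y]
       c (root 0) (c (root 0) (c (root 0) (root 1)))) [] = false := by decide +kernel

theorem W_com (x y : List ℕ) : W (wprod [winv x, winv y, x, y]) = com (W x) (W y) := by
  simp [W_wprod, W_winv, com, mul_assoc]

theorem rel_facts : com (xv 1) (com (xv 1) (com (xv 1) (xv 0))) = 1 ∧
    com (xv 0) (com (xv 0) (com (xv 0) (xv 1))) ≠ 1 := by
  constructor
  · have := W_eq rel_check.1
    simp only [W_com] at this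
    exact this
  · have := W_ne rel_check.2
    simp only [W_com] at this
    exact this

/-- an injective map of the Borel subgroup keeping radical and torus is conjugation by a torus
element -/
theorem rigid (f : bor →* N0) (hf : Function.Injective f)
    (hU : ∀ y : bor, (y : N0) ∈ KS KU → f y ∈ KS KU)
    (hT : ∀ p, f ⟨tt p, tt_mem_bor p⟩ ∈ H68.Ly.tor na nb) :
    ∃ p, ∀ y : bor, f y = tt p * (y : N0) * (tt p)⁻¹ := by
  classical
  let X : Fin 6 → bor := fun r => ⟨xv r, KU_le_bor (xv_mem (by fin_cases r <;> simp [KU]))⟩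
  let Tp : Fin 4 × Fin 4 → bor := fun p => ⟨tt p, tt_mem_bor p⟩
  choose σ hσ using fun p => mem_tor (hT p)
  have hσi : Function.Injective σ := fun p q h => by
    have : f (Tp p) = f (Tp q) := by rw [hσ, hσ, h]
    exact tt_inj (congrArg Subtype.val (hf this))
  have conjX : ∀ (r : Fin 6) p, (Tp p)⁻¹ * X r * Tp p = X r ^ mulN r p := fun r p =>
    Subtype.ext (by push_cast; exact tt_conj r.2 p)
  have image : ∀ r : Fin 6, ∃ (s : Fin 6) (k : Fin 5), k ≠ 0 ∧ f (X r) = xv s ^ (k : ℕ) := by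
    intro r
    obtain ⟨e, he⟩ := split_U (hU (X r) (xv_mem (by fin_cases r <;> simp [KU])))
    obtain ⟨s, k, rfl⟩ := single_root (e := e)
      (F := (Finset.univ.filter fun p : Fin 4 × Fin 4 => mulN r p % 5 = 1).image σ)
      (by rw [Finset.card_image_of_injective _ hσi, ker_check]) (fun q hq => by
        obtain ⟨p, hp, rfl⟩ := Finset.mem_image.mp hq
        simp only [Finset.mem_filter, Finset.mem_univ, true_and] at hp
        rw [← hσ, ← he, ← map_inv, ← map_mul, ← map_mul, conjX r p]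
        congr 1
        apply Subtype.ext
        push_cast
        rw [xv_pow_mod r.2, hp, pow_one])
    refine ⟨s, k, fun hk => ?_, by rw [he, co_single]⟩
    rw [hk, co_single] at he
    have h1 : X r = 1 := hf (by rw [he, map_one]; simp)
    have := pow_inj (r := r) (m := 1) (n := 0) (by simpa [X] using congrArg Subtype.val h1)
    omega
  obtain ⟨r, k, hk, hr⟩ := image 0
  obtain ⟨r', k', hk', hr'⟩ := image 1
  -- the two images generate
  let U' : Subgroup bor := (KS KU).comap bor.subtype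
  have hsurj : ∀ z ∈ KS KU, ∃ y ∈ U', f y = z := by
    intro z hz
    let F : U' → KS KU := fun y => ⟨f y, hU y y.2⟩
    have hFi : Function.Injective F := fun a b h => Subtype.ext (hf (congrArg Subtype.val h))
    have hcard : Nat.card U' = Nat.card (KS KU) := by
      refine Nat.card_congr ⟨fun y => ⟨(y : bor), y.2⟩, fun z => ⟨⟨z, KU_le_bor z.2⟩, z.2⟩, ?_, ?_⟩
      · intro y; rfl
      · intro z; rfl
    obtain ⟨y, hy⟩ := ((Nat.bijective_iff_injective_and_card F).mpr ⟨hFi, hcard⟩).2 ⟨z, hz⟩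
    exact ⟨y, y.2, congrArg Subtype.val hy⟩
  have hproper : ∀ {K : List ℕ}, (r : ℕ) ∈ K → (r' : ℕ) ∈ K → KS KU ≤ KS K := by
    intro K h h' z hz
    obtain ⟨y, hy, rfl⟩ := hsurj z hz
    have hgen : KS KU ≤ ((KS K).comap f).map bor.subtype :=
      KU_le_two ⟨X 0, by show f (X 0) ∈ KS K; rw [hr]; exact pow_mem (xv_mem h) _, rfl⟩
        ⟨X 1, by show f (X 1) ∈ KS K; rw [hr']; exact pow_mem (xv_mem h') _, rfl⟩
    obtain ⟨y', hy', e⟩ := hgen hy
    rwa [← Subtype.ext e]
  have hcase : r = 0 ∧ r' = 1 ∨ r = 1 ∧ r' = 0 := by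
    by_contra hne
    have hmem : ∀ {s : Fin 6}, s ≠ 0 → (s : ℕ) ∈ KR := fun {s} hs => by
      fin_cases s <;> simp [KR] at hs ⊢
    have hmem' : ∀ {s : Fin 6}, s ≠ 1 → (s : ℕ) ∈ KQ := fun {s} hs => by
      fin_cases s <;> simp [KQ] at hs ⊢
    have hR : r = 0 ∨ r' = 0 := by
      by_contra h
      push Not at h
      exact xv0_not_mem (hproper (hmem h.1) (hmem h.2) (xv_mem (by simp [KU])))
    have hQ : r = 1 ∨ r' = 1 := by
      by_contra h
      push Not at h
      exact xv1_not_mem (hproper (hmem' h.1) (hmem' h.2) (xv_mem (by simp [KU])))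
    rcases hR with h | h <;> rcases hQ with h' | h'
    · rw [h] at h'; exact absurd h' (by decide)
    · exact hne (Or.inl ⟨h, h'⟩)
    · exact hne (Or.inr ⟨h', h⟩)
    · rw [h] at h'; exact absurd h' (by decide)
  -- scaling
  have scale : ∀ {s : Fin 6} {c : Fin 5} {p}, (c : ℕ) * mulN s p % 5 = 1 →
      (tt p)⁻¹ * xv s ^ (c : ℕ) * tt p = xv s := fun {s c p} h => by
    have := (conj_pow (i := (c : ℕ)) (a := (tt p)⁻¹) (b := xv s)).symm
    rw [inv_inv] at this
    rw [this, tt_conj s.2, ← pow_mul, xv_pow_mod s.2, mul_comm, h, pow_one]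
  obtain ⟨p, hp0, hp1⟩ : ∃ p, (tt p)⁻¹ * f (X 0) * tt p = xv r ∧
      (tt p)⁻¹ * f (X 1) * tt p = xv r' := by
    rcases hcase with ⟨rfl, rfl⟩ | ⟨rfl, rfl⟩
    · obtain ⟨p, h1, h2⟩ := scale_check k k' hk hk'
      exact ⟨p, by rw [hr]; exact scale h1, by rw [hr']; exact scale h2⟩
    · obtain ⟨p, h1, h2⟩ := scale_check k' k hk' hk
      exact ⟨p, by rw [hr]; exact scale h2, by rw [hr']; exact scale h1⟩
  let g : bor →* N0 := ((MulAut.conj (tt p)⁻¹).toMonoidHom).comp f
  have gdef : ∀ y, g y = (tt p)⁻¹ * f y * tt p := fun y => by simp [g]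
  rcases hcase with ⟨rfl, rfl⟩ | ⟨rfl, rfl⟩
  swap
  · exfalso
    have hc : ∀ a b : bor, g (com a b) = com (g a) (g b) := fun a b => by simp [com]
    have h1 : com (X 1) (com (X 1) (com (X 1) (X 0))) = 1 := Subtype.ext (by
      simp only [com]; push_cast; exact rel_facts.1)
    have h2 := congrArg g h1
    rw [hc, hc, hc, gdef, gdef, hp0, hp1, map_one] at h2
    exact rel_facts.2 h2
  refine ⟨p, ?_⟩
  -- the conjugate fixes the radical
  have hgU : ∀ y : bor, (y : N0) ∈ KS KU → g y = y := by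
    intro y hy
    have hgen : KS KU ≤ (MonoidHom.eqLocus g bor.subtype).map bor.subtype :=
      KU_le_two ⟨X 0, (gdef (X 0)).trans hp0, rfl⟩ ⟨X 1, (gdef (X 1)).trans hp1, rfl⟩
    obtain ⟨y', hy', e⟩ := hgen hy
    rw [← Subtype.ext (e : (y' : N0) = y)]
    exact hy'
  have hgT : ∀ q, g (Tp q) = tt q := by
    intro q
    obtain ⟨q', hq'⟩ : ∃ q', g (Tp q) = tt q' := mem_tor (by
      rw [gdef]
      exact mul_mem (mul_mem (inv_mem (tt_mem p)) (hT q)) (tt_mem p))
    have hm : ∀ s : Fin 6, mulN s q' % 5 = mulN s q % 5 := fun s => by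
      refine pow_inj (r := s) ?_
      have hXs : (X s : N0) ∈ KS KU := xv_mem (by fin_cases s <;> simp [KU])
      have h1 : g ((Tp q)⁻¹ * X s * Tp q) = g (X s ^ mulN s q) := congrArg g (conjX s q)
      rw [map_mul, map_mul, map_inv, map_pow, hgU (X s) hXs, hq'] at h1
      rw [← tt_conj s.2]
      exact h1
    rw [hq', sep_check q' q (hm 0) (hm 1)]
  intro y
  obtain ⟨e, q, hy⟩ := bor_cases y.2
  have hy' : y = ⟨co e, KU_le_bor (co_mem e)⟩ * Tp q := Subtype.ext hy
  have hgy : g y = y := by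
    rw [hy', map_mul, hgU _ (co_mem e), hgT]
    rfl
  rw [gdef] at hgy
  rw [← hgy]
  group

end H38.LyOut
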