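import Cfsg.Agent.H38.LyOut.Borel
import Cfsg.Agent.H77.HN.Checks

/-!
Normalisers and centralisers of the radicals inside the group on a, b, c, d, and their fixed points
among the 19530 points.
-/

set_option autoImplicit false
set_option maxRecDepth 100000

namespace H38.LyOut

open H77.HN (evw run runK agree Rep allBelow allBelow_spec)
open H23.Ly (N0 gen na nb nc nd n0_rels n0_closure rep)
open H23.Ly.Data (T)

theorem bor_le_norm {K : List ℕ} (hK : K ∈ [KU, KR, KQ, KJ]) :
    bor ≤ Subgroup.normalizer (KS K : Set N0) := by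
  have hK' : K ∈ [KU, KR, KQ, KJ, [1, 2, 3, 4, 5], [2, 3, 4, 5], [3, 4, 5], [4, 5], [5], []] := by
    simp only [List.mem_cons, List.not_mem_nil, or_false] at hK ⊢
    tauto
  have hK6 : ∀ i ∈ K, i < 6 := by
    simp only [List.mem_cons, List.not_mem_nil, or_false] at hK
    rcases hK with rfl | rfl | rfl | rfl <;> decide
  have hU : KS KU ≤ Subgroup.normalizer (KS K : Set N0) := KS_le fun i hi => root_norm hK' (by
    simp only [KU, List.mem_cons, List.not_mem_nil, or_false] at hi; omega)
  intro y hy
  obtain ⟨e, p, rfl⟩ := bor_cases hy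
  refine mul_mem (hU (co_mem e)) (inv_mem_iff.1 (norm_of_conj ?_))
  rintro _ ⟨j, hj, rfl⟩
  rw [inv_inv, tt_conj (hK6 j hj)]
  exact pow_mem (xv_mem hj) _

/-- words of the reflections -/
def lvWord : Bool → List ℕ
  | false => Data.wS
  | true => Data.wF

def wvWord (w : List Bool) : List ℕ := wprod (w.map lvWord)

theorem W_lv (p : Bool) : W (lvWord p) = H68.Ly.lv na nb nc nd p := by
  cases p
  · simp [lvWord, Data.wS, W, gen, H23.Ly.genOf, H68.Ly.lv, H68.Ly.ss, mul_assoc]
  · simp [lvWord, Data.wF, W, gen, H23.Ly.genOf, H68.Ly.lv, H68.Ly.ff, H68.Ly.uWord, H68.Ly.ev,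
      H68.Ly.gen, mul_assoc]

theorem W_wvWord (w : List Bool) : W (wvWord w) = H68.Ly.wv na nb nc nd w := by
  rw [wvWord, W_wprod, List.map_map, H68.Ly.wv]
  exact congrArg List.prod (List.map_congr_left fun p _ => W_lv p)

/-- witnesses that words do not normalise -/
noncomputable def witOK (K : List ℕ) (tab : List (List Bool × ℕ × List ℕ × ℕ)) : Bool :=
  tab.all fun q => K.contains q.2.1 && keepsB K q.2.2.1 &&
    movesB (wprod [wvWord q.1, root q.2.1, winv (wvWord q.1)]) q.2.2.1 q.2.2.2

/-- a cell with a witness does not meet the normaliser -/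
theorem not_norm {K : List ℕ} (hK : K ∈ [KU, KR, KQ, KJ])
    {tab : List (List Bool × ℕ × List ℕ × ℕ)} (htab : witOK K tab = true)
    {w : List Bool} (hw : w ∈ tab.map Prod.fst) {x : N0}
    (hx : x ∈ H68.Ly.cell na nb nc nd w) : x ∉ Subgroup.normalizer (KS K : Set N0) := by
  intro hn
  obtain ⟨⟨w', r, S, p⟩, hq, rfl⟩ := List.mem_map.mp hw
  have h := List.all_eq_true.mp htab _ hq
  simp only [Bool.and_eq_true, List.contains_iff_mem] at h
  obtain ⟨β, hβ, β', hβ', rfl⟩ := hx
  have hw' : H68.Ly.wv na nb nc nd w' ∈ Subgroup.normalizer (KS K : Set N0) := by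
    have := mul_mem (mul_mem (inv_mem (bor_le_norm hK hβ)) hn) (inv_mem (bor_le_norm hK hβ'))
    simpa [mul_assoc] using this
  apply not_mem_of_moves h.1.2 h.2
  have := (Subgroup.mem_normalizer_iff.1 hw' (xv r)).1 (xv_mem h.1.1)
  rw [W_wprod]
  simpa [W_winv, W_wvWord, xv, mul_assoc] using this

theorem wit_checks : witOK KU Data.witU = true ∧ witOK KR Data.witR = true ∧
    witOK KQ Data.witQ = true ∧ witOK KJ Data.witJ = true := by decide +kernel

theorem wit_cover :
    (H68.Ly.cellWords.all fun w => w.isEmpty || (Data.witU.map Prod.fst).contains w) = true ∧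
    (H68.Ly.cellWords.all fun w => w.isEmpty || (Data.witR.map Prod.fst).contains w ||
      (Data.witJ.map Prod.fst).contains w) = true ∧
    (H68.Ly.cellWords.all fun w => w.isEmpty || (Data.witQ.map Prod.fst).contains w ||
      (Data.witJ.map Prod.fst).contains w) = true := by decide +kernel

theorem cell_nil {x : N0} (hx : x ∈ H68.Ly.cell na nb nc nd []) : x ∈ bor := by
  obtain ⟨β, hβ, β', hβ', rfl⟩ := hx
  simpa [H68.Ly.wv] using mul_mem hβ hβ'

theorem norm_U_le : Subgroup.normalizer (KS KU : Set N0) ≤ bor := by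
  intro x hx
  obtain ⟨w, hw, hc⟩ := n0_mem_cells x
  have h := List.all_eq_true.mp wit_cover.1 w hw
  simp only [Bool.or_eq_true, List.contains_iff_mem, List.isEmpty_iff] at h
  rcases h with rfl | h
  · exact cell_nil hc
  · exact absurd hx (not_norm (by simp) wit_checks.1 h hc)

theorem norm_RJ {x : N0} (hR : x ∈ Subgroup.normalizer (KS KR : Set N0))
    (hJ : x ∈ Subgroup.normalizer (KS KJ : Set N0)) : x ∈ bor := by
  obtain ⟨w, hw, hc⟩ := n0_mem_cells x
  have h := List.all_eq_true.mp wit_cover.2.1 w hw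
  simp only [Bool.or_eq_true, List.contains_iff_mem, List.isEmpty_iff] at h
  rcases h with (rfl | h) | h
  · exact cell_nil hc
  · exact absurd hR (not_norm (by simp) wit_checks.2.1 h hc)
  · exact absurd hJ (not_norm (by simp) wit_checks.2.2.2 h hc)

theorem norm_QJ {x : N0} (hQ : x ∈ Subgroup.normalizer (KS KQ : Set N0))
    (hJ : x ∈ Subgroup.normalizer (KS KJ : Set N0)) : x ∈ bor := by
  obtain ⟨w, hw, hc⟩ := n0_mem_cells x
  have h := List.all_eq_true.mp wit_cover.2.2 w hw
  simp only [Bool.or_eq_true, List.contains_iff_mem, List.isEmpty_iff] at h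
  rcases h with (rfl | h) | h
  · exact cell_nil hc
  · exact absurd hQ (not_norm (by simp) wit_checks.2.2.1 h hc)
  · exact absurd hJ (not_norm (by simp) wit_checks.2.2.2 h hc)

/-! ### centralisers -/

/-- the word of a candidate -/
def candWord (k : ℕ) (p : Fin 4 × Fin 4) : List ℕ := wprod [wpow (root 0) k, ttWord p]

/-- all nontrivial candidates fail to centralise -/
noncomputable def centOK (K : List ℕ) : Bool :=
  (List.range 5).all fun k => (List.finRange 4).all fun i => (List.finRange 4).all fun j =>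
    (Nat.beq k 0 && Nat.beq i.val 0 && Nat.beq j.val 0) ||
      K.any fun r => !agree T B5 (wprod [candWord k (i, j), root r])
        (wprod [root r, candWord k (i, j)])

theorem cent_checks : centOK KR = true ∧ centOK KQ = true := by decide +kernel

theorem a2_moves : ∀ r : Fin 6, r ≠ 0 → mulN r (1, 0) % 5 ≠ 1 := by decide +kernel

theorem cent_trivial {K : List ℕ} (hK : centOK K = true) {x : N0} (hx : x ∈ bor)
    (ha : Commute x (W Data.wA2)) (hc : ∀ r ∈ K, Commute x (xv r)) : x = 1 := by
  obtain ⟨e, p, rfl⟩ := bor_cases hx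
  have ht : tt (1, 0) = W Data.wA2 := by simp [tt]
  have htp : Commute (tt p) (W Data.wA2) := by
    obtain ⟨i, j⟩ := p
    have hg : Commute (W Data.wG) (W Data.wA2) := by
      rw [wA2_eq, wG_eq]; exact n0_rels.z_comm_g.symm
    rw [tt]
    exact ((Commute.refl _).pow_left _).mul_left (hg.pow_left _)
  have he : (tt (1, 0))⁻¹ * co e * tt (1, 0) = co e := by
    have hco : Commute (co e) (W Data.wA2) := by
      have := ha.mul_left htp.inv_left
      rwa [mul_inv_cancel_right] at this
    rw [ht, mul_assoc, hco.eq, inv_mul_cancel_left]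
  have h0 : ∀ r : Fin 6, r ≠ 0 → e r = 0 := fun r hr => by
    by_contra hne
    have h1 := fix_coord _ _ hne (congrFun (co_inj ((co_conj _ e).symm.trans he)) r)
    exact a2_moves r hr (congrArg Fin.val h1)
  have hee : e = Pi.single 0 (e 0) := funext fun r => by
    by_cases hr : r = 0
    · subst hr; simp
    · rw [h0 r hr, Pi.single_eq_of_ne hr]
  rw [hee, co_single] at hc ⊢
  have hW : W (candWord (e 0) p) = xv 0 ^ (e 0 : ℕ) * tt p := by
    simp [candWord, W_wprod, W_wpow, W_ttWord, xv]
  have h := List.all_eq_true.mp (List.all_eq_true.mp (List.all_eq_true.mp hK (e 0 : ℕ)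
    (List.mem_range.mpr (e 0).2)) p.1 (List.mem_finRange _)) p.2 (List.mem_finRange _)
  simp only [Bool.or_eq_true, Bool.and_eq_true, Nat.beq_eq, List.any_eq_true, Bool.not_eq_true'] at h
  rcases h with ⟨⟨h1, h2⟩, h3⟩ | ⟨r, hr, hne⟩
  · have : p = (0, 0) := Prod.ext (Fin.ext h2) (Fin.ext h3)
    rw [this, tt_zero, Fin.val_zero, h1, pow_zero, mul_one]
  · refine absurd ?_ (W_ne hne)
    rw [W_wprod, W_wprod]
    simp only [List.map_cons, List.map_nil, List.prod_cons, List.prod_nil, mul_one, hW]
    exact (hc r hr).eq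

/-- elements centralising the first radical and a² -/
theorem cent_R {x : N0} (ha : Commute x (W Data.wA2)) (hc : ∀ r ∈ KR, Commute x (xv r)) :
    x = 1 := by
  have hn : ∀ {K : List ℕ}, (∀ r ∈ K, r ∈ KR) →
      x ∈ Subgroup.normalizer (KS K : Set N0) := fun {K} h => norm_of_conj (by
    rintro _ ⟨r, hr, rfl⟩
    rw [(hc r (h r hr)).eq, mul_inv_cancel_right]
    exact xv_mem hr)
  exact cent_trivial cent_checks.1 (norm_RJ (hn fun r hr => hr) (hn (by decide))) ha hc

/-- elements centralising the second radical and a² -/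
theorem cent_Q {x : N0} (ha : Commute x (W Data.wA2)) (hc : ∀ r ∈ KQ, Commute x (xv r)) :
    x = 1 := by
  have hn : ∀ {K : List ℕ}, (∀ r ∈ K, r ∈ KQ) →
      x ∈ Subgroup.normalizer (KS K : Set N0) := fun {K} h => norm_of_conj (by
    rintro _ ⟨r, hr, rfl⟩
    rw [(hc r (h r hr)).eq, mul_inv_cancel_right]
    exact xv_mem hr)
  exact cent_trivial cent_checks.2 (norm_QJ (hn fun r hr => hr) (hn (by decide))) ha hc

/-! ### fixed points -/

/-- some root of the list moves the point -/
noncomputable def movedB (K : List ℕ) (c : ℕ) : Bool :=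
  K.any fun r => !Nat.beq (runK T (root r) c) c

theorem fixQ_check : allBelow (movedB KQ) 0 19530 = true := by decide +kernel

/-- the five fixed points of the first radical -/
noncomputable def fivePts : List ℕ := (List.range 5).map fun k => runK T (wpow (root 0) k) 0

theorem fixR_check : allBelow (fun c => movedB KR c || fivePts.contains c) 0 19530 = true := by
  decide +kernel

theorem not_fix_of_moved {K : List ℕ} {p : Fin 19530} (h : movedB K p = true) :
    ∃ r ∈ K, rep.φ (xv r) p ≠ p := by
  simp only [movedB, List.any_eq_true, Bool.not_eq_true', H77.HN.runK_eq] at h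
  obtain ⟨r, hr, hne⟩ := h
  refine ⟨r, hr, fun e => ?_⟩
  have e' : run T (root r) p = p := by
    rw [← rep.evw_apply]; exact congrArg Fin.val e
  rw [e'] at hne
  simp at hne

/-- the second radical fixes no point -/
theorem fixQ_none {p : Fin 19530} (h : ∀ r ∈ KQ, rep.φ (xv r) p = p) : False := by
  obtain ⟨r, hr, hne⟩ := not_fix_of_moved (allBelow_spec fixQ_check p (Nat.zero_le _) (by omega))
  exact hne (h r hr)

/-- the first radical fixes the five translates of the point 0 -/
theorem fixR_five {p : Fin 19530} (h : ∀ r ∈ KR, rep.φ (xv r) p = p) :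
    ∃ k : ℕ, rep.φ (xv 0 ^ k) ⟨0, by decide⟩ = p := by
  have := allBelow_spec fixR_check p (Nat.zero_le _) (by omega)
  simp only [Bool.or_eq_true, List.contains_iff_mem] at this
  rcases this with hm | hm
  · obtain ⟨r, hr, hne⟩ := not_fix_of_moved hm
    exact absurd (h r hr) hne
  · simp only [fivePts, List.mem_map, H77.HN.runK_eq] at hm
    obtain ⟨k, -, hk⟩ := hm
    refine ⟨k, Fin.ext ?_⟩
    rw [← hk, xv, ← W_wpow, rep.evw_apply]

/-! ### the twist -/

/-- the inverse of c, and its twist -/
def twistFrom : List ℕ := [4]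
def twistTo : List ℕ := [1, 3, 1, 2, 5, 3, 0, 5, 2, 0]

theorem twist_checks :
    agree T B5 twistTo (coWord Data.twistExp) = true ∧
    suppIn KR Data.twistExp = true ∧ suppIn KR (Data.genExp.getD 1 []) = true ∧
    allBelow (fun c => !Nat.beq (runK T twistFrom c) c || Data.fixC.contains c) 0 19530 = true ∧
    (Data.fixImage.all fun c => decide (c < 19530) && Nat.beq (runK T twistTo c) c) = true ∧
    Data.fixImage.Nodup ∧ Data.fixC.length < Data.fixImage.length := by decide +kernel

theorem twistTo_mem : W twistTo ∈ KS KR := W_eq twist_checks.1 ▸ coWord_mem twist_checks.2.1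

theorem twistFrom_mem : W twistFrom ∈ KS KR := by
  have h := W_eq (List.all_eq_true.mp gen_check.1 1 (List.mem_range.mpr (by norm_num)))
  have hm := coWord_mem twist_checks.2.2.1
  rw [← h] at hm
  simpa [W, twistFrom, gen, H23.Ly.genOf] using inv_mem hm

/-- the twist is not induced by the group on a, b, c, d -/
theorem twist_not_conj (n : N0) : n * W twistTo * n⁻¹ ≠ W twistFrom := by
  intro h
  obtain ⟨-, -, -, hC, hI, hnd, hlen⟩ := twist_checks
  have key : ∀ c ∈ Data.fixImage, ∀ hc : c < 19530, (rep.φ n ⟨c, hc⟩ : ℕ) ∈ Data.fixC := by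
    intro c hmem hc
    have h1 := List.all_eq_true.mp hI c hmem
    simp only [Bool.and_eq_true, decide_eq_true_eq, Nat.beq_eq, H77.HN.runK_eq] at h1
    have h2 : rep.φ (W twistTo) ⟨c, hc⟩ = ⟨c, hc⟩ := Fin.ext (by rw [rep.evw_apply]; exact h1.2)
    have h3 : rep.φ (W twistFrom) (rep.φ n ⟨c, hc⟩) = rep.φ n ⟨c, hc⟩ := by
      rw [← h, map_mul, map_mul, Equiv.Perm.mul_apply, Equiv.Perm.mul_apply, map_inv]
      simp [h2]
    have h4 : run T twistFrom (rep.φ n ⟨c, hc⟩ : ℕ) = (rep.φ n ⟨c, hc⟩ : ℕ) := by
      rw [← rep.evw_apply]; exact congrArg Fin.val h3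
    have h5 := allBelow_spec hC _ (Nat.zero_le _) (by
      have := (rep.φ n ⟨c, hc⟩).2; omega)
    simp only [Bool.or_eq_true, Bool.not_eq_true', List.contains_iff_mem, H77.HN.runK_eq, h4] at h5
    rcases h5 with h5 | h5
    · simp at h5
    · exact h5
  have hb : ∀ c ∈ Data.fixImage, c < 19530 := fun c hc => by
    have h1 := List.all_eq_true.mp hI c hc
    simp only [Bool.and_eq_true, decide_eq_true_eq] at h1
    exact h1.1
  let img : ℕ → ℕ := fun c => if hc : c < 19530 then (rep.φ n ⟨c, hc⟩ : ℕ) else c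
  have h1 : (Data.fixImage.map img).Nodup := hnd.map_on fun a ha b hb' he => by
    simp only [img, dif_pos (hb a ha), dif_pos (hb b hb')] at he
    exact congrArg Fin.val ((rep.φ n).injective (Fin.ext he))
  have h2 : Data.fixImage.map img ⊆ Data.fixC := by
    intro y hy
    obtain ⟨c, hc, rfl⟩ := List.mem_map.mp hy
    simp only [img, dif_pos (hb c hc)]
    exact key c hc _
  have h3 := (h1.subperm h2).length_le
  rw [List.length_map] at h3
  omega

end H38.LyOut
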