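import Cfsg.Agent.H38.LyOut.Cells
import Cfsg.Agent.H97.Ly.Upper
import Cfsg.Agent.H97.Ly.NInst

/-!
The cosets of the subgroup on a, b, c, d in the Lyons group, given the order of the group: exact
stabilisers, fixed cosets of the radicals, and their centralisers.
-/

set_option autoImplicit false
set_option maxRecDepth 100000

namespace H38.LyOut

open H77.HN (evw run runK agree Rep)
open H23.Ly (N0 gen na nb nc nd n0_rels n0_closure rep)

/-- the model -/
noncomputable def Mm : H97.Ly.NModel N0 := H97.Ly.Inst.model n0_le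

/-- the embedding -/
noncomputable def emb : N0 →* Cfsg.Spor.Ly := Mm.ι

/-- the further generator -/
noncomputable def gt : Cfsg.Spor.Ly := H97.Ly.cv 0

/-- the cosets -/
abbrev Cos : Type := Cfsg.Spor.Ly ⧸ emb.range

/-- the base cosets -/
noncomputable def qc (i : ℕ) : Cos := Mm.amalgam.q H97.Ly.Data.treeList i

theorem qc_zero : qc 0 = QuotientGroup.mk 1 := Mm.amalgam.q_zero _

theorem mem_range_of_fix {g : Cfsg.Spor.Ly} (h : g • qc 0 = qc 0) : g ∈ emb.range := by
  rw [qc_zero] at h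
  change QuotientGroup.mk (g * 1) = QuotientGroup.mk 1 at h
  rw [QuotientGroup.eq] at h
  simpa using h

theorem fix_of_mem_range {g : Cfsg.Spor.Ly} (h : g ∈ emb.range) : g • qc 0 = qc 0 := by
  rw [qc_zero]
  show QuotientGroup.mk (g * 1) = QuotientGroup.mk 1
  rw [QuotientGroup.eq]
  simpa using h

theorem edge_zero : H97.Ly.Data.nwTab.getD 0 [] = [] ∧ H97.Ly.Data.mwTab.getD 0 [] = [] ∧
    H97.Ly.Data.srcTab.getD 0 0 = 0 ∧ H97.Ly.Data.treeList = [72, 34, 29, 0] := by decide

theorem qc_one : qc 1 = gt • qc 0 := by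
  have e : H97.Ly.Data.treeList = [72, 34, 29, 0] := edge_zero.2.2.2
  unfold qc
  rw [e, Mm.amalgam.q_cons_of_le (by simp), Mm.amalgam.q_cons_of_le (by simp),
    Mm.amalgam.q_cons_of_le (by simp), Mm.amalgam.q_zero]
  unfold H23.DC.Amalgam.q
  rw [H23.DC.Amalgam.qs, H23.DC.Amalgam.qs, List.getD_append_right _ _ _ _ (by simp)]
  have h1 : Mm.setting.D.nw 0 = [] := edge_zero.1
  have h2 : Mm.setting.D.mw 0 = [] := edge_zero.2.1
  have h3 : Mm.setting.D.src 0 = 0 := edge_zero.2.2.1
  rw [h1, h2, h3]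
  simp [H23.DC.Setting.e, gt, H97.Ly.NModel.amalgam]
  rfl

theorem g10_word (w : List ℕ) (hw : ∀ l ∈ w, l < 10) :
    emb (W w) = evw H97.Ly.letter w := by
  rw [W, ← H97.Ly.Inst.evw_low w hw]
  have : evw (fun l => Mm.ι (Mm.gen10 l)) w = emb (evw H97.Ly.Inst.g10 w) :=
    H77.HN.evw_map Mm.ι Mm.gen10 w
  rw [← this]
  exact congrArg (fun f => evw f w) (funext fun l => Mm.ι_letter l)

theorem word_small : ((List.range 8).all fun t => [10 + t, 18 + t].all fun i =>
    (H97.Ly.Data.wordTab.getD i []).all fun l => decide (l < 10)) = true := by decide +kernel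

/-- the twist on the eight generators of the point stabiliser -/
theorem twist_gen {t : ℕ} (ht : t < 8) :
    gt * emb (W (H97.Ly.Data.wordTab.getD (10 + t) [])) =
      emb (W (H97.Ly.Data.wordTab.getD (18 + t) [])) * gt := by
  have h := List.all_eq_true.mp word_small t (List.mem_range.mpr ht)
  simp only [List.all_cons, List.all_nil, Bool.and_true, Bool.and_eq_true, List.all_eq_true,
    decide_eq_true_eq] at h
  rw [g10_word _ h.1, g10_word _ h.2]
  exact H97.Ly.twist_word ht

variable (hG : Nat.card Cfsg.Spor.Ly = 51765179004000000)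
include hG

theorem finite_G : Finite Cfsg.Spor.Ly :=
  Nat.finite_of_card_ne_zero (by rw [hG]; norm_num)

theorem range_facts : Nat.card emb.range = 5859000000 ∧ emb.range.index = 8835156 := by
  haveI := finite_G hG
  have h1 : emb.range.index ≤ 8835156 := by
    have h := Mm.abcd_index_le.2
    rw [← Mm.range_eq] at h
    exact h
  have h2 : Nat.card emb.range ≤ 5859000000 := by
    rw [← n0_card]
    exact Nat.card_le_card_of_surjective _ emb.rangeRestrict_surjective
  have h3 := emb.range.index_mul_card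
  rw [hG] at h3
  have h4 : 8835156 * Nat.card emb.range ≤ 8835156 * 5859000000 := Nat.mul_le_mul_left _ h2
  have h5 : emb.range.index * Nat.card emb.range ≤ 8835156 * Nat.card emb.range :=
    Nat.mul_le_mul_right _ h1
  have h6 : Nat.card emb.range = 5859000000 := by
    refine le_antisymm h2 (le_of_mul_le_mul_left (a := 8835156) ?_ (by norm_num))
    calc 8835156 * 5859000000 = emb.range.index * Nat.card emb.range := by rw [h3]
      _ ≤ _ := h5
  refine ⟨h6, Nat.eq_of_mul_eq_mul_right (m := 5859000000) (by norm_num) ?_⟩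
  rw [← h6, h3, h6]

theorem emb_injective : Function.Injective emb := by
  haveI := finite_G hG
  have hb : Function.Bijective emb.rangeRestrict :=
    (Nat.bijective_iff_surjective_and_card emb.rangeRestrict).mpr
      ⟨emb.rangeRestrict_surjective, by rw [n0_card, (range_facts hG).1]⟩
  exact fun a b h => hb.1 (Subtype.ext h)

theorem cover_bijective : Function.Bijective (Mm.cover) := by
  haveI := finite_G hG
  refine Mm.cover_surjective.bijective_of_nat_card_le ?_
  rw [Nat.card_sigma]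
  have h : Nat.card Mm.amalgam.Cos = 8835156 := (range_facts hG).2
  rw [h]
  refine le_trans (le_of_eq ?_) Mm.sum_index_le
  exact Fin.sum_univ_eq_sum_range (fun i => (Mm.setting.stab i).index) 5

/-- every coset is a translate of a base coset -/
theorem exists_form (y : Cos) : ∃ i < 5, ∃ n : N0, y = emb n • qc i := by
  haveI := finite_G hG
  obtain ⟨⟨i, c⟩, rfl⟩ := Mm.cover_surjective y
  obtain ⟨n, rfl⟩ := QuotientGroup.mk_surjective c
  exact ⟨i, i.2, n, Mm.cover_mk n⟩

/-- the stabiliser of a base coset is the one of the certificate -/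
theorem mem_stab {i : ℕ} (hi : i < 5) {n : N0} : emb n • qc i = qc i ↔ n ∈ Mm.setting.stab i := by
  constructor
  · intro h
    have h1 : Mm.cover ⟨⟨i, hi⟩, QuotientGroup.mk n⟩ = Mm.cover ⟨⟨i, hi⟩, QuotientGroup.mk 1⟩ := by
      rw [Mm.cover_mk (i := ⟨i, hi⟩), Mm.cover_mk (i := ⟨i, hi⟩), map_one, one_smul]
      exact h
    have h2 := (cover_bijective hG).1 h1
    simp only [Sigma.mk.injEq, heq_eq_eq, true_and] at h2
    rw [QuotientGroup.eq] at h2
    simpa using h2
  · exact fun h => Mm.amalgam.stab_fix Mm.valid H97.Ly.done_ok hi h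

theorem stab_cards : Nat.card (Mm.setting.stab 1) = 300000 ∧ Nat.card (Mm.setting.stab 2) = 2880 ∧
    Nat.card (Mm.setting.stab 3) = 1008 ∧ Nat.card (Mm.setting.stab 4) = 6048 := by
  haveI := finite_G hG
  have hsum : ∑ i ∈ Finset.range 5, (Mm.setting.stab i).index = 8835156 := by
    rw [← Fin.sum_univ_eq_sum_range (fun i => (Mm.setting.stab i).index) 5,
      ← (range_facts hG).2]
    show _ = Nat.card Mm.amalgam.Cos
    rw [← Nat.card_congr (Equiv.ofBijective _ (cover_bijective hG)), Nat.card_sigma]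
    rfl
  simp only [Finset.sum_range_succ, Finset.sum_range_zero, Mm.stab_zero, Subgroup.index_top] at hsum
  have h1 := Mm.stab_index H97.Ly.levels1_ok
  have h2 := Mm.stab_index H97.Ly.levels2_ok
  have h3 := Mm.stab_index H97.Ly.levels3_ok
  have h4 := Mm.stab_index H97.Ly.levels4_ok
  have c1 := (Mm.setting.stab 1).index_mul_card
  have c2 := (Mm.setting.stab 2).index_mul_card
  have c3 := (Mm.setting.stab 3).index_mul_card
  have c4 := (Mm.setting.stab 4).index_mul_card
  rw [n0_card] at c1 c2 c3 c4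
  obtain ⟨e1, e2, e3, e4⟩ : (Mm.setting.stab 1).index = 19530 ∧
      (Mm.setting.stab 2).index = 2034375 ∧ (Mm.setting.stab 3).index = 5812500 ∧
      (Mm.setting.stab 4).index = 968750 := by omega
  rw [e1] at c1
  rw [e2] at c2
  rw [e3] at c3
  rw [e4] at c4
  omega

theorem stab_one : Mm.setting.stab 1 = rep.fixPt ⟨0, by decide⟩ := by
  refine Subgroup.eq_of_le_of_card_ge ?_ ?_
  · rw [H23.DC.Setting.stab, Subgroup.closure_le]
    rintro _ ⟨l, hl, rfl⟩
    refine Fin.ext ?_
    show ((Mm.repAll.φ (Mm.gen l) ⟨0, by decide⟩ : Fin 19530) : ℕ) = 0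
    have hl' : l ∈ [26, 27] := hl
    have key : ([26, 27].all fun l => Nat.beq (H97.Ly.T l 0) 0) = true := by decide +kernel
    have h0 := List.all_eq_true.mp key l hl'
    rw [Nat.beq_eq] at h0
    exact (Mm.rep_spec l ⟨0, by decide⟩).trans h0
  · rw [(stab_cards hG).1, (H23.Ly.exact_facts n0_le).2.2.2]

/-- cosets fixed by a subgroup whose order divides none of the small stabilisers -/
theorem fixed_cases {H : Subgroup N0} (hd : 25 ∣ Nat.card H) {y : Cos}
    (hy : ∀ h ∈ H, emb h • y = y) :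
    y = qc 0 ∨ ∃ n : N0, y = emb n • qc 1 ∧
      ∀ h ∈ H, rep.φ h (rep.φ n ⟨0, by decide⟩) = rep.φ n ⟨0, by decide⟩ := by
  obtain ⟨i, hi, n, rfl⟩ := exists_form hG y
  have hconj : ∀ h ∈ H, n⁻¹ * h * n ∈ Mm.setting.stab i := fun h hh => by
    rw [← mem_stab hG hi, map_mul, map_mul, map_inv, mul_smul, mul_smul, hy h hh, inv_smul_smul]
  by_cases h0 : i = 0
  · subst h0
    exact Or.inl (fix_of_mem_range ⟨n, rfl⟩)
  by_cases h1 : i = 1
  · subst h1
    refine Or.inr ⟨n, rfl, fun h hh => ?_⟩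
    have := hconj h hh
    rw [stab_one hG, H77.HN.Rep.mem_fixPt, map_mul, map_mul, map_inv, Equiv.Perm.mul_apply,
      Equiv.Perm.mul_apply, Equiv.Perm.inv_eq_iff_eq] at this
    exact this
  exfalso
  have hle : H.map (MulAut.conj n⁻¹).toMonoidHom ≤ Mm.setting.stab i := by
    rintro _ ⟨h, hh, rfl⟩
    simpa using hconj h hh
  have h25 : 25 ∣ Nat.card (Mm.setting.stab i) := by
    refine hd.trans ?_
    rw [← Subgroup.card_map_of_injective (K := H) (f := (MulAut.conj n⁻¹).toMonoidHom)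
      (MulAut.conj n⁻¹).injective]
    exact Subgroup.card_dvd_of_le hle
  obtain ⟨-, c2, c3, c4⟩ := stab_cards hG
  interval_cases i
  · exact h0 rfl
  · exact h1 rfl
  · rw [c2] at h25; omega
  · rw [c3] at h25; omega
  · rw [c4] at h25; omega

omit hG in
theorem dvd25 {K : List ℕ} (hJ : ∀ i ∈ KJ, i ∈ K) (hU : ∀ i ∈ K, i ∈ KU) :
    25 ∣ Nat.card (KS K) := by
  obtain ⟨k, -, hk⟩ := (Nat.dvd_prime_pow (by norm_num : Nat.Prime 5)).1
    (show Nat.card (KS K) ∣ 5 ^ 6 by
      rw [show 5 ^ 6 = Nat.card (KS KU) by rw [card_KU]; rfl]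
      exact Subgroup.card_dvd_of_le (KS_mono hU))
  have h25 : 25 ≤ Nat.card (KS K) := by
    let f : Fin 5 × Fin 5 → KS K := fun p => ⟨xv 2 ^ (p.1 : ℕ) * xv 3 ^ (p.2 : ℕ),
      mul_mem (pow_mem (xv_mem (hJ 2 (by simp [KJ]))) _) (pow_mem (xv_mem (hJ 3 (by simp [KJ]))) _)⟩
    have hf : Function.Injective f := fun p q h => by
      have h' : co ![0, 0, p.1, p.2, 0, 0] = co ![0, 0, q.1, q.2, 0, 0] := by
        have h'' : xv 2 ^ (p.1 : ℕ) * xv 3 ^ (p.2 : ℕ) = xv 2 ^ (q.1 : ℕ) * xv 3 ^ (q.2 : ℕ) :=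
          congrArg Subtype.val h
        simpa [co] using h''
      have := co_inj h'
      exact Prod.ext (congrFun this 2) (congrFun this 3)
    have := Nat.card_le_card_of_injective f hf
    simpa using this
  have hk2 : 2 ≤ k := by
    by_contra h
    rw [hk] at h25
    have : (5 : ℕ) ^ k ≤ 5 ^ 1 := Nat.pow_le_pow_right (by norm_num) (by omega)
    omega
  rw [hk]
  exact (show (25 : ℕ) = 5 ^ 2 by norm_num) ▸ pow_dvd_pow 5 hk2

/-- the radical of the Borel subgroup and the second radical fix only the base coset -/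
theorem fixed_Q {K : List ℕ} (hQ : ∀ i ∈ KQ, i ∈ K) (hU : ∀ i ∈ K, i ∈ KU) {y : Cos}
    (hy : ∀ h ∈ KS K, emb h • y = y) : y = qc 0 := by
  rcases fixed_cases hG (dvd25 (fun i hi => hQ i (by
    simp only [KJ, KQ, List.mem_cons, List.not_mem_nil, or_false] at hi ⊢; omega)) hU) hy with
    h | ⟨n, -, h⟩
  · exact h
  · exact absurd (fun r hr => h _ (xv_mem (hQ r hr))) fun h' => fixQ_none h'

/-- an element centralising the second radical lies in the subgroup -/
theorem cent_mem_Q {x : Cfsg.Spor.Ly} (hx : ∀ h ∈ KS KQ, Commute x (emb h)) : x ∈ emb.range := by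
  refine mem_range_of_fix (fixed_Q hG (fun i hi => hi) (by decide) fun h hh => ?_)
  rw [smul_smul, ← (hx h hh).eq, mul_smul, fix_of_mem_range ⟨h, rfl⟩]

/-- an element normalising the radical of the Borel subgroup lies in the subgroup -/
theorem norm_mem_U {x : Cfsg.Spor.Ly}
    (hx : ∀ h ∈ KS KU, x⁻¹ * emb h * x ∈ emb.range) : x ∈ emb.range := by
  refine mem_range_of_fix (fixed_Q hG (K := KU) (by decide) (fun i hi => hi) fun h hh => ?_)
  rw [smul_smul, show emb h * x = x * (x⁻¹ * emb h * x) by group, mul_smul,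
    fix_of_mem_range (hx h hh)]

/-- an element centralising the first radical lies in the subgroup -/
theorem cent_mem_R {x : Cfsg.Spor.Ly} (hx : ∀ h ∈ KS KR, Commute x (emb h)) : x ∈ emb.range := by
  refine mem_range_of_fix ?_
  have hfix : ∀ h ∈ KS KR, emb h • x • qc 0 = x • qc 0 := fun h hh => by
    rw [smul_smul, ← (hx h hh).eq, mul_smul, fix_of_mem_range ⟨h, rfl⟩]
  rcases fixed_cases hG (dvd25 (by decide) (by decide)) hfix with h | ⟨n, hn, hfn⟩
  · exact h
  exfalso
  obtain ⟨k, hk⟩ := fixR_five (p := rep.φ n ⟨0, by decide⟩) fun r hr => hfn _ (xv_mem hr)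
  have hmem : (xv 0 ^ k)⁻¹ * n ∈ Mm.setting.stab 1 := by
    rw [stab_one hG, H77.HN.Rep.mem_fixPt, map_mul, map_inv, Equiv.Perm.mul_apply, ← hk,
      Equiv.Perm.inv_eq_iff_eq]
  rw [← mem_stab hG (by norm_num)] at hmem
  -- move to the neighbour
  set β := emb (xv 0 ^ k) with hβ
  have hx' : (β⁻¹ * x * β) • qc 0 = gt • qc 0 := by
    rw [mul_smul, mul_smul, fix_of_mem_range (g := β) ⟨_, rfl⟩, hn, ← qc_one, hβ,
      ← map_inv, smul_smul, ← map_mul, hmem]
  obtain ⟨m, hm⟩ : gt⁻¹ * (β⁻¹ * x * β) ∈ emb.range :=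
    mem_range_of_fix (by rw [mul_smul, hx', inv_smul_smul])
  have hcomm : ∀ h ∈ KS KR, Commute (β⁻¹ * x * β) (emb h) := by
    intro h hh
    have hb : xv 0 ^ k ∈ Subgroup.normalizer (KS KR : Set N0) :=
      pow_mem (bor_le_norm (by simp) (KU_le_bor (xv_mem (by simp [KU])))) _
    have h1 : xv 0 ^ k * h * (xv 0 ^ k)⁻¹ ∈ KS KR := (Subgroup.mem_normalizer_iff.1 hb h).1 hh
    have h2 := (hx _ h1).eq
    simp only [map_mul, map_inv, ← hβ] at h2
    show _ = _
    calc β⁻¹ * x * β * emb h = β⁻¹ * (x * (β * emb h * β⁻¹)) * β := by group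
      _ = β⁻¹ * (β * emb h * β⁻¹ * x) * β := by rw [h2]
      _ = emb h * (β⁻¹ * x * β) := by group
  have hx'' : β⁻¹ * x * β = gt * emb m := by rw [hm]; group
  have hc := (hcomm _ twistTo_mem).eq
  rw [hx''] at hc
  have htw : gt * emb (W twistFrom) = emb (W twistTo) * gt := twist_gen (t := 3) (by norm_num)
  have e : emb (m * W twistTo * m⁻¹) = emb (W twistFrom) := by
    rw [map_mul, map_mul, map_inv]
    calc emb m * emb (W twistTo) * (emb m)⁻¹ = gt⁻¹ * (gt * emb m * emb (W twistTo)) * (emb m)⁻¹ := by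
          group
      _ = gt⁻¹ * (emb (W twistTo) * (gt * emb m)) * (emb m)⁻¹ := by rw [hc]
      _ = gt⁻¹ * (emb (W twistTo) * gt) := by group
      _ = emb (W twistFrom) := by rw [← htw]; group
  exact twist_not_conj m (emb_injective hG e)

end H38.LyOut
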