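import Cfsg.Agent.H38.LyOut.Cosets
import Cfsg.Prelude.Def_KGroupFacts

/-!
Every automorphism of the Lyons group is inner, given its order.
-/

set_option autoImplicit false
set_option maxRecDepth 100000

namespace H38.LyOut

open H77.HN (evw run runK agree Rep)
open H23.Ly (N0 gen na nb nc nd n0_rels n0_closure rep)

theorem refl_checks :
    (Data.fExp.all fun q => agree H23.Ly.Data.T B5
      (wprod [Data.wF, root q.1, winv Data.wF]) (coWord q.2) && suppIn KU q.2) = true ∧
    (Data.sExp.all fun q => agree H23.Ly.Data.T B5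
      (wprod [Data.wS, root q.1, winv Data.wS]) (coWord q.2) && suppIn KU q.2) = true ∧
    agree H23.Ly.Data.T B5 (wprod [Data.wF, Data.wA2, winv Data.wF]) Data.wG = true ∧
    agree H23.Ly.Data.T B5 (wprod [Data.wS, Data.wA2, winv Data.wS]) Data.wA2 = true ∧
    (KQ.all fun r => (Data.fExp.map Prod.fst).contains r) = true ∧
    (KR.all fun r => (Data.sExp.map Prod.fst).contains r) = true := by decide +kernel

theorem wA2_mem : W Data.wA2 ∈ bor := by
  have := tt_mem_bor (1, 0)
  simpa [tt] using this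

theorem wG_mem : W Data.wG ∈ bor := by
  have := tt_mem_bor (0, 1)
  simpa [tt] using this

theorem stab_mem_checks :
    ((KR.map root ++ [Data.wA2]).all fun w =>
      Nat.beq (runK H23.Ly.Data.T w 0) 0) = true := by decide +kernel

theorem card_tor : Nat.card (H68.Ly.tor na nb) = 16 := by
  have hb : Function.Bijective fun p : Fin 4 × Fin 4 => (⟨tt p, tt_mem p⟩ : H68.Ly.tor na nb) :=
    ⟨fun p q h => tt_inj (congrArg Subtype.val h), fun ⟨t, ht⟩ => by
      obtain ⟨p, rfl⟩ := mem_tor ht; exact ⟨p, rfl⟩⟩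
  rw [← Nat.card_congr (Equiv.ofBijective _ hb), Nat.card_eq_fintype_card]
  simp

/-- a subgroup of full prime power order is a Sylow subgroup -/
theorem factor_eq {n p k m : ℕ} (hp : p.Prime) (hn : n = p ^ k * m) (hm : ¬ p ∣ m) :
    n.factorization p = k := by
  have hm0 : m ≠ 0 := fun h => hm (h ▸ dvd_zero p)
  rw [hn, Nat.factorization_mul (pow_ne_zero _ hp.ne_zero) hm0, Finsupp.add_apply,
    hp.factorization_pow, Finsupp.single_eq_same, Nat.factorization_eq_zero_of_not_dvd hm, add_zero]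

variable (hG : Nat.card Cfsg.Spor.Ly = 51765179004000000)
include hG

/-- after an inner automorphism the radical of the Borel subgroup is kept -/
theorem exists_keep (α : MulAut Cfsg.Spor.Ly) : ∃ g, ((KS KU).map emb).map
    (MulAut.conj g * α).toMonoidHom = (KS KU).map emb := by
  haveI := finite_G hG
  haveI : Fact (Nat.Prime 5) := ⟨by norm_num⟩
  have hf : (Nat.card Cfsg.Spor.Ly).factorization 5 = 6 := by
    rw [hG]
    exact factor_eq (m := 3312971456256) (by norm_num) (by norm_num) (by decide)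
  have hc : Nat.card ((KS KU).map emb) = 5 ^ (Nat.card Cfsg.Spor.Ly).factorization 5 := by
    rw [Subgroup.card_map_of_injective (emb_injective hG), card_KU, hf]; rfl
  have hc' : Nat.card (((KS KU).map emb).map α.toMonoidHom) =
      5 ^ (Nat.card Cfsg.Spor.Ly).factorization 5 := by
    rw [Subgroup.card_map_of_injective (f := α.toMonoidHom) α.injective, hc]
  obtain ⟨g, hg⟩ := MulAction.exists_smul_eq Cfsg.Spor.Ly (Sylow.ofCard _ hc') (Sylow.ofCard _ hc)
  refine ⟨g, ?_⟩
  have h := congrArg (fun P : Sylow 5 Cfsg.Spor.Ly => (P : Subgroup Cfsg.Spor.Ly)) hg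
  simp only [Sylow.coe_subgroup_smul, Sylow.coe_ofCard, Subgroup.pointwise_smul_def] at h
  refine Eq.trans ?_ h
  rw [show (MulAut.conj g * α).toMonoidHom = (MulAut.conj g).toMonoidHom.comp α.toMonoidHom from rfl,
    ← Subgroup.map_map]
  rfl

/-- a map keeping the radical keeps its normaliser -/
theorem keep_bor {α : MulAut Cfsg.Spor.Ly}
    (h : ((KS KU).map emb).map α.toMonoidHom = (KS KU).map emb) {b : N0} (hb : b ∈ bor) :
    ∃ b' ∈ bor, α (emb b) = emb b' := by
  have hU : ∀ u ∈ KS KU, ∃ u' ∈ KS KU, α (emb u') = emb u ∧ ∃ u'' ∈ KS KU, α (emb u) = emb u'' := by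
    intro u hu
    have h1 : emb u ∈ ((KS KU).map emb).map α.toMonoidHom := h.symm ▸ ⟨u, hu, rfl⟩
    obtain ⟨_, ⟨u', hu', rfl⟩, e⟩ := h1
    have h2 : α (emb u) ∈ (KS KU).map emb := h ▸ ⟨_, ⟨u, hu, rfl⟩, rfl⟩
    obtain ⟨u'', hu'', e'⟩ := h2
    exact ⟨u', hu', e, u'', hu'', e'.symm⟩
  have hn : ∀ c ∈ bor, ∀ u ∈ KS KU, ∃ v ∈ KS KU,
      (α (emb c))⁻¹ * emb u * α (emb c) = emb v := by
    intro c hc u hu
    obtain ⟨u', hu', e, -⟩ := hU u hu
    have hv : c⁻¹ * u' * c ∈ KS KU := by
      have := (Subgroup.mem_normalizer_iff.1 (inv_mem (bor_le_norm (K := KU) (by simp) hc)) u').1 hu'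
      rwa [inv_inv] at this
    obtain ⟨-, -, -, u'', hu'', e''⟩ := hU _ hv
    refine ⟨u'', hu'', ?_⟩
    rw [← e'', ← e]
    simp only [map_mul, map_inv]
  obtain ⟨b', hb'⟩ := norm_mem_U hG fun u hu => by
    obtain ⟨v, -, e⟩ := hn b hb u hu
    exact ⟨v, e.symm⟩
  refine ⟨b', norm_U_le ?_, hb'.symm⟩
  rw [← inv_mem_iff]
  refine norm_of_conj fun u hu => ?_
  obtain ⟨v, hv, e⟩ := hn b hb u (Subgroup.subset_closure hu)
  rw [← hb', ← map_inv, ← map_mul, ← map_mul] at e
  rw [inv_inv, emb_injective hG e]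
  exact hv

/-- after a further inner automorphism the Borel subgroup is fixed pointwise -/
theorem exists_fix_bor (α : MulAut Cfsg.Spor.Ly) :
    ∃ g : Cfsg.Spor.Ly, ∀ b ∈ bor, (MulAut.conj g * α : MulAut Cfsg.Spor.Ly) (emb b) = emb b := by
  classical
  haveI := finite_G hG
  haveI : Fact (Nat.Prime 2) := ⟨Nat.prime_two⟩
  obtain ⟨g, hg⟩ := exists_keep hG α
  set α1 := MulAut.conj g * α with hα1
  choose F hF hFe using fun b : bor => keep_bor hG hg b.2
  let f : bor →* N0 :=
    { toFun := F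
      map_one' := emb_injective hG (by rw [← hFe]; simp)
      map_mul' := fun a b => emb_injective hG (by rw [← hFe]; simp [hFe]) }
  have hfi : Function.Injective f := fun a b h => by
    have h' : α1 (emb a) = α1 (emb b) := by rw [hFe, hFe]; exact congrArg emb h
    exact Subtype.ext (emb_injective hG (α1.injective h'))
  have hfU : ∀ y : bor, (y : N0) ∈ KS KU → f y ∈ KS KU := by
    intro y hy
    have h2 : α1 (emb y) ∈ (KS KU).map emb := hg ▸ ⟨_, ⟨_, hy, rfl⟩, rfl⟩
    obtain ⟨u, hu, e⟩ := h2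
    rw [hFe] at e
    show F y ∈ KS KU
    rwa [← emb_injective hG e]
  let fb : bor →* bor := f.codRestrict bor hF
  have hfbi : Function.Injective fb := fun a b h => hfi (congrArg Subtype.val h)
  let Tb : Subgroup bor := (H68.Ly.tor na nb).subgroupOf bor
  have hTb : Nat.card Tb = 2 ^ (Nat.card bor).factorization 2 := by
    rw [card_bor, factor_eq (n := 250000) (k := 4) (m := 15625) Nat.prime_two (by norm_num) (by decide),
      Nat.card_congr (Subgroup.subgroupOfEquivOfLe H68.Ly.tor_le_bor).toEquiv, card_tor]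
    rfl
  have hTb' : Nat.card (Tb.map fb) = 2 ^ (Nat.card bor).factorization 2 := by
    rw [Subgroup.card_map_of_injective hfbi, hTb]
  obtain ⟨c, hc⟩ := MulAction.exists_smul_eq bor (Sylow.ofCard _ hTb') (Sylow.ofCard _ hTb)
  have hc' := congrArg (fun P : Sylow 2 bor => (P : Subgroup bor)) hc
  simp only [Sylow.coe_subgroup_smul, Sylow.coe_ofCard, Subgroup.pointwise_smul_def] at hc'
  let f2 : bor →* N0 := (MulAut.conj (c : N0)).toMonoidHom.comp f
  have f2def : ∀ y, f2 y = (c : N0) * f y * (c : N0)⁻¹ := fun y => rfl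
  have hf2i : Function.Injective f2 := (MulAut.conj (c : N0)).injective.comp hfi
  obtain ⟨p, hp⟩ := rigid f2 hf2i
    (fun y hy => by
      rw [f2def]
      exact (Subgroup.mem_normalizer_iff.1 (bor_le_norm (K := KU) (by simp) c.2) _).1 (hfU y hy))
    (fun q => by
      have h1 : c * fb ⟨tt q, tt_mem_bor q⟩ * c⁻¹ ∈ Tb := by
        rw [← hc']
        exact ⟨fb ⟨tt q, tt_mem_bor q⟩, ⟨_, tt_mem q, rfl⟩, rfl⟩
      exact h1)
  refine ⟨(emb (tt p))⁻¹ * emb c * g, fun b hb => ?_⟩
  have e : f2 ⟨b, hb⟩ = tt p * b * (tt p)⁻¹ := hp ⟨b, hb⟩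
  rw [f2def] at e
  have e2 := congrArg emb e
  simp only [map_mul, map_inv] at e2
  have h1 : α1 (emb b) = emb (f ⟨b, hb⟩) := hFe ⟨b, hb⟩
  rw [map_mul, mul_assoc, MulAut.mul_apply, ← hα1, h1, MulAut.conj_apply]
  calc (emb (tt p))⁻¹ * emb c * emb (f ⟨b, hb⟩) * ((emb (tt p))⁻¹ * emb c)⁻¹
      = (emb (tt p))⁻¹ * (emb c * emb (f ⟨b, hb⟩) * (emb c)⁻¹) * emb (tt p) := by group
    _ = emb b := by rw [e2]; group

/-- an element is fixed if it maps enough of the Borel subgroup into it -/
theorem fix_refl {α : MulAut Cfsg.Spor.Ly} (hfix : ∀ b ∈ bor, α (emb b) = emb b) {w : List ℕ}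
    {K : List ℕ} (hcent : ∀ {x : Cfsg.Spor.Ly}, (∀ h ∈ KS K, Commute x (emb h)) → x ∈ emb.range)
    (hone : ∀ {x : N0}, Commute x (W Data.wA2) → (∀ r ∈ K, Commute x (xv r)) → x = 1)
    (hK : ∀ r ∈ K, xv r ∈ bor) (hconj : ∀ r ∈ K, W w * xv r * (W w)⁻¹ ∈ bor)
    (ha : W w * W Data.wA2 * (W w)⁻¹ ∈ bor) : α (emb (W w)) = emb (W w) := by
  set n := emb (W w) with hn
  have key : ∀ y : N0, y ∈ bor → W w * y * (W w)⁻¹ ∈ bor →
      Commute (n⁻¹ * α n) (emb y) := by
    intro y hy hy'
    have h1 := hfix _ hy'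
    simp only [map_mul, map_inv] at h1
    rw [hfix y hy, ← hn] at h1
    show _ = _
    calc n⁻¹ * α n * emb y = n⁻¹ * (α n * emb y * (α n)⁻¹) * α n := by group
      _ = emb y * (n⁻¹ * α n) := by rw [h1]; group
  have hKc : ∀ h ∈ KS K, Commute (n⁻¹ * α n) (emb h) := by
    intro h hh
    have : KS K ≤ (Subgroup.centralizer ({n⁻¹ * α n} : Set Cfsg.Spor.Ly)).comap emb :=
      KS_le fun r hr => Subgroup.mem_centralizer_singleton_iff.2 (key _ (hK r hr) (hconj r hr)).eq.symm
    exact (Subgroup.mem_centralizer_singleton_iff.1 (this hh)).symm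
  obtain ⟨m, hm⟩ := hcent hKc
  have hback : ∀ y : N0, Commute (n⁻¹ * α n) (emb y) → Commute m y := fun y hy => by
    refine emb_injective hG ?_
    rw [map_mul, map_mul, hm]
    exact hy.eq
  have hm1 : m = 1 := hone (hback _ (key _ wA2_mem ha)) fun r hr =>
    hback _ (hKc _ (xv_mem hr))
  rw [hm1, map_one] at hm
  exact (inv_mul_eq_one.1 hm.symm).symm

/-- a map fixing the Borel subgroup fixes the subgroup on a, b, c, d -/
theorem fix_range {α : MulAut Cfsg.Spor.Ly} (hfix : ∀ b ∈ bor, α (emb b) = emb b) (y : N0) :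
    α (emb y) = emb y := by
  obtain ⟨hf, hs, hfa, hsa, hfc, hsc⟩ := refl_checks
  have conj_mem : ∀ {n : List ℕ} {tab : List (ℕ × List ℕ)} {K : List ℕ},
      (tab.all fun q => agree H23.Ly.Data.T B5
        (wprod [n, root q.1, winv n]) (coWord q.2) && suppIn KU q.2) = true →
      (K.all fun r => (tab.map Prod.fst).contains r) = true →
      ∀ r ∈ K, W n * xv r * (W n)⁻¹ ∈ bor := by
    intro n tab K ht hcov r hr
    have h1 := List.all_eq_true.mp hcov r hr
    simp only [List.contains_iff_mem, List.mem_map] at h1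
    obtain ⟨q, hq, rfl⟩ := h1
    have h2 := List.all_eq_true.mp ht q hq
    simp only [Bool.and_eq_true] at h2
    have e := W_eq h2.1
    rw [W_wprod] at e
    have hm := KU_le_bor (coWord_mem h2.2)
    rw [← e] at hm
    simpa [W_winv, xv, mul_assoc] using hm
  have hKm : ∀ {K : List ℕ}, (∀ r ∈ K, r ∈ KU) → ∀ r ∈ K, xv r ∈ bor := fun {K} h r hr =>
    KU_le_bor (xv_mem (h r hr))
  have hF : α (emb (W Data.wF)) = emb (W Data.wF) :=
    fix_refl hG hfix (K := KQ) (fun h => cent_mem_Q hG h) (fun h1 h2 => cent_Q h1 h2)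
      (hKm (by decide)) (conj_mem hf hfc) (by
        have e := W_eq hfa
        rw [W_wprod] at e
        have hm := wG_mem
        rw [← e] at hm
        simpa [W_winv, mul_assoc] using hm)
  have hS : α (emb (W Data.wS)) = emb (W Data.wS) :=
    fix_refl hG hfix (K := KR) (fun h => cent_mem_R hG h) (fun h1 h2 => cent_R h1 h2)
      (hKm (by decide)) (conj_mem hs hsc) (by
        have e := W_eq hsa
        rw [W_wprod] at e
        have hm := wA2_mem
        rw [← e] at hm
        simpa [W_winv, mul_assoc] using hm)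
  let S : Subgroup N0 := MonoidHom.eqLocus (α.toMonoidHom.comp emb) emb
  have hB : bor ≤ S := fun b hb => hfix b hb
  have hlv : ∀ p, H68.Ly.lv na nb nc nd p ∈ S := fun p => by
    rw [← W_lv]
    cases p
    exacts [hS, hF]
  obtain ⟨w, -, β, hβ, β', hβ', rfl⟩ := n0_mem_cells y
  have : H68.Ly.wv na nb nc nd w ∈ S := by
    refine Subgroup.list_prod_mem _ fun z hz => ?_
    obtain ⟨p, -, rfl⟩ := List.mem_map.mp hz
    exact hlv p
  exact mul_mem (mul_mem (hB hβ) this) (hB hβ')

/-- a map fixing the subgroup on a, b, c, d is the identity -/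
theorem fix_all {α : MulAut Cfsg.Spor.Ly} (hfix : ∀ y, α (emb y) = emb y) : α = 1 := by
  have hgt : α gt = gt := by
    -- the elements of the point stabiliser commute with the quotient
    have key : ∀ h : N0, h ∈ rep.fixPt ⟨0, by decide⟩ → Commute (gt⁻¹ * α gt) (emb h) := by
      have hle : rep.fixPt ⟨0, by decide⟩ ≤
          Subgroup.closure ((fun t => W (H97.Ly.Data.wordTab.getD (10 + t) [])) '' {t | t < 8}) := by
        refine le_trans Mm.fix_le ((Subgroup.closure_le _).2 ?_)
        rintro _ ⟨t, ht, rfl⟩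
        have hs := List.all_eq_true.mp word_small t (List.mem_range.mpr ht)
        simp only [List.all_cons, List.all_nil, Bool.and_true, Bool.and_eq_true, List.all_eq_true,
          decide_eq_true_eq] at hs
        exact Subgroup.subset_closure ⟨t, ht, (H97.Ly.Inst.evw_low _ hs.1).symm⟩
      intro h hh
      have h1 : Subgroup.closure ((fun t => W (H97.Ly.Data.wordTab.getD (10 + t) [])) '' {t | t < 8}) ≤
          (Subgroup.centralizer ({gt⁻¹ * α gt} : Set Cfsg.Spor.Ly)).comap emb := by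
        rw [Subgroup.closure_le]
        rintro _ ⟨t, ht, rfl⟩
        refine Subgroup.mem_centralizer_singleton_iff.2 ?_
        have e := twist_gen ht
        have e' := congrArg α e
        rw [map_mul, map_mul, hfix, hfix] at e'
        show emb (W (H97.Ly.Data.wordTab.getD (10 + t) [])) * _ = _
        have e1 : emb (W (H97.Ly.Data.wordTab.getD (10 + t) [])) * gt⁻¹ =
            gt⁻¹ * emb (W (H97.Ly.Data.wordTab.getD (18 + t) [])) :=
          calc _ = gt⁻¹ * (gt * emb (W (H97.Ly.Data.wordTab.getD (10 + t) []))) * gt⁻¹ := by group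
            _ = _ := by rw [e]; group
        rw [← mul_assoc, e1, mul_assoc, ← e', mul_assoc]
      exact (Subgroup.mem_centralizer_singleton_iff.1 (h1 (hle hh))).symm
    have hin : ∀ w ∈ KR.map root ++ [Data.wA2], W w ∈ rep.fixPt ⟨0, by decide⟩ := fun w hw => by
      have h := List.all_eq_true.mp stab_mem_checks w hw
      rw [Nat.beq_eq, H77.HN.runK_eq] at h
      exact Fin.ext (by rw [rep.evw_apply]; exact h)
    have hRfix : KS KR ≤ rep.fixPt ⟨0, by decide⟩ := KS_le fun r hr =>
      hin _ (List.mem_append_left _ (List.mem_map_of_mem hr))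
    obtain ⟨m, hm⟩ := cent_mem_R hG fun h hh => key h (hRfix hh)
    have hback : ∀ y : N0, Commute (gt⁻¹ * α gt) (emb y) → Commute m y := fun y hy => by
      refine emb_injective hG ?_
      rw [map_mul, map_mul, hm]
      exact hy.eq
    have hm1 : m = 1 := cent_R
      (hback _ (key _ (hin _ (List.mem_append_right _ (List.mem_singleton_self _)))))
      fun r hr => hback _ (key _ (hRfix (xv_mem hr)))
    rw [hm1, map_one] at hm
    exact (inv_mul_eq_one.1 hm.symm).symm
  have htop : Subgroup.closure (insert gt (Set.range emb)) ≤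
      MonoidHom.eqLocus α.toMonoidHom (MonoidHom.id _) := by
    rw [Subgroup.closure_le]
    rintro x (rfl | ⟨y, rfl⟩)
    exacts [hgt, hfix y]
  refine MulEquiv.ext fun x => ?_
  exact htop (by
    have : Subgroup.closure (insert gt (Set.range emb)) = ⊤ := Mm.gen_top'
    rw [this]; exact Subgroup.mem_top x)

/-- every automorphism of the Lyons group is inner -/
theorem mem_inn (α : MulAut Cfsg.Spor.Ly) : α ∈ Cfsg.Inn Cfsg.Spor.Ly := by
  obtain ⟨g, hg⟩ := exists_fix_bor hG α
  have h1 : MulAut.conj g * α = 1 := fix_all hG (fix_range hG hg)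
  refine ⟨g⁻¹, ?_⟩
  rw [map_inv]
  exact inv_eq_of_mul_eq_one_right h1

/-- the outer automorphism group is trivial -/
theorem card_out : Nat.card (Cfsg.Out Cfsg.Spor.Ly) = 1 := by
  haveI : Subsingleton (Cfsg.Out Cfsg.Spor.Ly) := ⟨fun x y => by
    induction x using QuotientGroup.induction_on
    induction y using QuotientGroup.induction_on
    exact QuotientGroup.eq.2 (mem_inn hG _)⟩
  exact Nat.card_of_subsingleton (1 : Cfsg.Out Cfsg.Spor.Ly)

end H38.LyOut
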